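/-
The alternating square of a character.

* `altSq χ` : `x ↦ (χ x ^ 2 - χ (x * x)) / 2`; `isCharacter_altSq`
* `classInner_altSq_one` : it has no invariants if the indicator is one
-/
import Cfsg.Agent.Lib.Char.Inner
import Cfsg.Agent.Lib.FSInd.Basic
import Mathlib.LinearAlgebra.Matrix.Kronecker

set_option autoImplicit false

namespace Cfsg.Agent.Perm.TwiceP

open Cfsg Module
open scoped ComplexConjugate Kronecker

variable {G : Type*} [Group G]

/-- The alternating square. -/
noncomputable def altSq (χ : G → ℂ) : G → ℂ := fun x => (χ x ^ 2 - χ (x * x)) / 2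

theorem isCharacter_altSq {χ : G → ℂ} (hχ : IsCharacter G χ) : IsCharacter G (altSq χ) := by
  classical
  obtain ⟨d, ρ, rfl⟩ := hχ
  set R : G → Matrix (Fin d) (Fin d) ℂ := fun x => LinearMap.toMatrix' (ρ x) with hR
  have hRmul : ∀ x y, R (x * y) = R x * R y := fun x y => by
    rw [hR]; simp only; rw [map_mul, LinearMap.toMatrix'_mul]
  set Sw : Matrix (Fin d × Fin d) (Fin d × Fin d) ℂ :=
    Matrix.of fun q r => if q.swap = r then 1 else 0 with hSw
  have hswl : ∀ (M : Matrix (Fin d × Fin d) (Fin d × Fin d) ℂ) q r, (Sw * M) q r = M q.swap r := by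
    intro M q r
    rw [Matrix.mul_apply, Finset.sum_eq_single q.swap (fun b _ hb => by simp [hSw, Ne.symm hb])
      (fun h => absurd (Finset.mem_univ _) h)]
    simp [hSw]
  have hswr : ∀ (M : Matrix (Fin d × Fin d) (Fin d × Fin d) ℂ) q r, (M * Sw) q r = M q r.swap := by
    intro M q r
    rw [Matrix.mul_apply, Finset.sum_eq_single r.swap (fun b _ hb => ?_)
      (fun h => absurd (Finset.mem_univ _) h)]
    · simp [hSw]
    · simp only [hSw, Matrix.of_apply]
      rw [if_neg, mul_zero]
      rintro rfl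
      exact hb (Prod.swap_swap b).symm
  have hcomm : ∀ x, Sw * (R x ⊗ₖ R x) = (R x ⊗ₖ R x) * Sw := fun x => by
    ext q r
    rw [hswl, hswr]
    simp [mul_comm]
  have hsq : Sw * Sw = 1 := by
    ext q r
    rw [hswl]
    simp [hSw, Matrix.one_apply]
  set P : Module.End ℂ (Fin d × Fin d → ℂ) := Matrix.toLin' ((2 : ℂ)⁻¹ • (1 - Sw)) with hP
  have hPP : ∀ v, P (P v) = P v := by
    intro v
    rw [hP, ← LinearMap.comp_apply, ← Matrix.toLin'_mul]
    congr 2
    simp only [Matrix.smul_mul, Matrix.mul_smul, Matrix.sub_mul, Matrix.mul_sub,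
      Matrix.one_mul, Matrix.mul_one, hsq]
    module
  let T : G → Module.End ℂ (Fin d × Fin d → ℂ) := fun x => Matrix.toLin' (R x ⊗ₖ R x)
  have hTmul : ∀ x y v, T (x * y) v = T x (T y v) := fun x y v => by
    simp only [T]
    rw [hRmul, Matrix.mul_kronecker_mul, Matrix.toLin'_mul, LinearMap.comp_apply]
  have hTone : ∀ v, T 1 v = v := fun v => by
    simp [T, hR]
  have hTP : ∀ x v, T x (P v) = P (T x v) := by
    intro x v
    rw [hP, ← LinearMap.comp_apply, ← LinearMap.comp_apply, ← Matrix.toLin'_mul, ← Matrix.toLin'_mul]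
    congr 2
    simp only [Matrix.smul_mul, Matrix.mul_smul, Matrix.sub_mul, Matrix.mul_sub, Matrix.one_mul,
      Matrix.mul_one, hcomm]
  let σ : Representation ℂ G (LinearMap.range P) :=
    { toFun := fun x => (T x).restrict (p := LinearMap.range P) (q := LinearMap.range P)
        (fun v ⟨w, hw⟩ => ⟨T x w, by rw [← hTP, hw]⟩)
      map_one' := LinearMap.ext fun v => Subtype.ext (hTone _)
      map_mul' := fun x y => LinearMap.ext fun v => Subtype.ext (hTmul x y _) }
  have hσ : σ.character = altSq ρ.character := by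
    funext x
    have hr : σ x = P.rangeRestrict ∘ₗ (T x ∘ₗ (LinearMap.range P).subtype) := by
      refine LinearMap.ext fun v => Subtype.ext ?_
      obtain ⟨v, w, rfl⟩ := v
      change T x (P w) = P (T x (P w))
      rw [hTP, hPP]
    rw [Representation.character, hr, LinearMap.trace_comp_comm']
    change LinearMap.trace ℂ _ ((T x) ∘ₗ P) = _
    rw [hP, ← Matrix.toLin'_mul, Matrix.trace_toLin'_eq, Matrix.mul_smul, Matrix.trace_smul,
      Matrix.mul_sub, Matrix.mul_one, Matrix.trace_sub, Matrix.trace_kronecker]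
    have h2 : ((R x ⊗ₖ R x) * Sw).trace = (R (x * x)).trace := by
      rw [hRmul]
      simp only [Matrix.trace, Matrix.diag, hswr, Fintype.sum_prod_type, Matrix.mul_apply]
      rfl
    have htr : ∀ y, ρ.character y = (R y).trace := fun y => by
      rw [Representation.character, LinearMap.trace_eq_matrix_trace ℂ (Pi.basisFun ℂ (Fin d)),
        LinearMap.toMatrix_eq_toMatrix']
    rw [h2, altSq, htr, htr, smul_eq_mul]
    ring
  exact hσ ▸ Char.isCharacter_character σ

theorem classInner_altSq_one [Fintype G] {χ : G → ℂ} (hχ : IsIrrCharacter G χ)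
    (hreal : ∀ x, conj (χ x) = χ x) (hfs : FSInd.fsInd χ = 1) :
    classInner (altSq χ) (1 : G → ℂ) = 0 := by
  have h1 : classInner χ χ = 1 := Char.classInner_irr_self hχ
  have e : classInner (altSq χ) (1 : G → ℂ) = (classInner χ χ - FSInd.fsInd χ) / 2 := by
    simp only [classInner, FSInd.fsInd, altSq, Pi.one_apply, map_one, mul_one, hreal, ← pow_two]
    rw [← Finset.sum_div, Finset.sum_sub_distrib]
    ring
  rw [e, h1, hfs, sub_self, zero_div]

end Cfsg.Agent.Perm.TwiceP
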