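/-
Arithmetic of the suborbit data in degree `2 * p`.

* `rank_three_subdegrees` : the case of two suborbits
* `suborbit_arith` : subdegrees congruent to `0`, one congruent to `1` modulo `e`
* `dvd_card_of_invariant` : the order of a group of units divides an invariant set
-/
import Cfsg.Agent.EqLemmas
import Mathlib.GroupTheory.Coset.Card
import Mathlib.Data.Real.Basic

set_option autoImplicit false

namespace Cfsg.Agent.Perm.TwiceP

theorem dvd_card_of_invariant {M : Type*} [CommGroup M] [Finite M] (S : Subgroup M) (X : Set M)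
    (hX : ∀ s ∈ S, ∀ x ∈ X, x * s ∈ X) : Nat.card S ∣ Nat.card X := by
  have h : (QuotientGroup.mk : M → M ⧸ S) ⁻¹' ((QuotientGroup.mk : M → M ⧸ S) '' X) = X := by
    refine le_antisymm ?_ (Set.subset_preimage_image _ _)
    rintro y ⟨x, hx, hxy⟩
    have := hX _ (QuotientGroup.eq.mp hxy) x hx
    rwa [mul_inv_cancel_left] at this
  rw [← h, Nat.card_congr (QuotientGroup.preimageMkEquivSubgroupProdSet S _), Nat.card_prod]
  exact dvd_mul_right _ _

theorem one_le_of_bound {e r : ℕ} (he : 0 < e) {δ J M : ℤ}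
    (h : 2 * (r : ℤ) * δ * (δ - 1) + e * J ^ 2 ≤ 2 * r * e * J) (hJ : 1 ≤ J)
    (hM : M ≤ δ * (δ - 1)) : M < e * J := by
  have h1 : (0 : ℤ) < e * J ^ 2 := by positivity
  by_contra hle
  rw [not_lt] at hle
  have h2 : (2 * r : ℤ) * (e * J) ≤ (2 * r : ℤ) * (δ * (δ - 1)) :=
    mul_le_mul_of_nonneg_left (hle.trans hM) (by positivity)
  nlinarith

theorem suborbit_arith {ι : Type*} [DecidableEq ι] (Q : Finset ι) {e r : ℕ} (he : 2 ≤ e)
    (hr : 2 ≤ r) (hre : r ≤ e + 1) (k δ J : ι → ℤ) (q₀ : ι) (hq₀ : q₀ ∈ Q)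
    (hcard : Q.card = r + 1)
    (hk : ∀ q ∈ Q, 2 ≤ k q ∧ k q = e * J q + δ q ∧ 1 ≤ J q ∧
      2 * (r : ℤ) * δ q * (δ q - 1) + e * J q ^ 2 ≤ 2 * r * e * J q)
    (hnon : ∀ q ∈ Q, q ≠ q₀ → (e : ℤ) ∣ k q) (hsp : (e : ℤ) ∣ k q₀ - 1)
    (hδ : ∑ q ∈ Q, δ q = 1) (hJ : ∑ q ∈ Q, J q = 2 * r)
    (horth : ∑ q ∈ Q, (δ q : ℚ) ^ 2 / k q = 1) : e = 2 ∧ r = 3 := by
  have he0 : (0 : ℤ) < e := by omega
  have hdvd : ∀ q ∈ Q, q ≠ q₀ → (e : ℤ) ∣ δ q := fun q hq hne => by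
    have := hnon q hq hne
    rw [(hk q hq).2.1] at this
    exact (Int.dvd_add_right (dvd_mul_right _ _)).mp this
  have hdvd₀ : (e : ℤ) ∣ δ q₀ - 1 := by
    rw [(hk q₀ hq₀).2.1, add_sub_assoc] at hsp
    exact (Int.dvd_add_right (dvd_mul_right _ _)).mp hsp
  -- the bounds on `J`
  have hpos : ∀ q ∈ Q, (e : ℤ) ≤ δ q ∨ δ q ≤ 1 - e → (e : ℤ) ≤ J q := by
    intro q hq h
    have hM : (e : ℤ) * (e - 1) ≤ δ q * (δ q - 1) := by
      rcases h with h | h
      · nlinarith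
      · nlinarith
    have := one_le_of_bound (by omega) (hk q hq).2.2.2 (hk q hq).2.2.1 hM
    have := lt_of_mul_lt_mul_left this he0.le
    omega
  obtain ⟨q₁, hq₁, q₂, hq₂, hne, hb₁, hb₂⟩ : ∃ q₁ ∈ Q, ∃ q₂ ∈ Q, q₁ ≠ q₂ ∧
      ((e : ℤ) ≤ δ q₁ ∨ δ q₁ ≤ 1 - e) ∧ ((e : ℤ) ≤ δ q₂ ∨ δ q₂ ≤ 1 - e) := by
    have hbig : ∀ q ∈ Q, q ≠ q₀ → δ q ≠ 0 → (e : ℤ) ≤ δ q ∨ δ q ≤ 1 - e := by
      intro q hq hne h0
      rcases lt_or_gt_of_ne h0 with h | h
      · have := Int.le_of_dvd (by omega) ((hdvd q hq hne).neg_right)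
        omega
      · exact Or.inl (Int.le_of_dvd h (hdvd q hq hne))
    rw [← Finset.add_sum_erase _ _ hq₀] at hδ
    by_cases h1 : δ q₀ = 1
    · have hz : ∑ q ∈ Q.erase q₀, δ q = 0 := by omega
      by_cases hall : ∀ q ∈ Q.erase q₀, δ q = 0
      · exfalso
        rw [← Finset.add_sum_erase _ _ hq₀, h1,
          Finset.sum_eq_zero fun q hq => by rw [hall q hq]; simp] at horth
        have hk0 : (2 : ℚ) ≤ k q₀ := by exact_mod_cast (hk q₀ hq₀).1
        rw [Int.cast_one, one_pow, add_zero, div_eq_one_iff_eq (by linarith)] at horth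
        linarith
      · push Not at hall
        obtain ⟨q₁, hq₁, h₁⟩ := hall
        rw [← Finset.add_sum_erase _ _ hq₁] at hz
        obtain ⟨q₂, hq₂, h₂⟩ := Finset.exists_ne_zero_of_sum_ne_zero
          (show ∑ q ∈ (Q.erase q₀).erase q₁, δ q ≠ 0 by omega)
        have hq₂' := Finset.mem_of_mem_erase hq₂
        exact ⟨q₁, Finset.mem_of_mem_erase hq₁, q₂, Finset.mem_of_mem_erase hq₂',
          (Finset.ne_of_mem_erase hq₂).symm,
          hbig _ (Finset.mem_of_mem_erase hq₁) (Finset.ne_of_mem_erase hq₁) h₁,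
          hbig _ (Finset.mem_of_mem_erase hq₂') (Finset.ne_of_mem_erase hq₂') h₂⟩
    · obtain ⟨q₂, hq₂, h₂⟩ := Finset.exists_ne_zero_of_sum_ne_zero
        (show ∑ q ∈ Q.erase q₀, δ q ≠ 0 by omega)
      refine ⟨q₀, hq₀, q₂, Finset.mem_of_mem_erase hq₂, (Finset.ne_of_mem_erase hq₂).symm, ?_,
        hbig _ (Finset.mem_of_mem_erase hq₂) (Finset.ne_of_mem_erase hq₂) h₂⟩
      rcases lt_or_gt_of_ne h1 with h | h
      · have := Int.le_of_dvd (by omega) (hdvd₀.neg_right)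
        omega
      · have := Int.le_of_dvd (by omega) hdvd₀
        omega
  have hrest : ((r : ℤ) - 1) ≤ ∑ q ∈ (Q.erase q₁).erase q₂, J q := by
    have hc : ((Q.erase q₁).erase q₂).card = r - 1 := by
      rw [Finset.card_erase_of_mem (Finset.mem_erase.mpr ⟨hne.symm, hq₂⟩),
        Finset.card_erase_of_mem hq₁, hcard]
      omega
    refine le_trans ?_ (Finset.card_nsmul_le_sum _ _ 1 fun q hq =>
      (hk q (Finset.mem_of_mem_erase (Finset.mem_of_mem_erase hq))).2.2.1)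
    rw [hc, nsmul_one]
    omega
  rw [← Finset.add_sum_erase _ _ hq₁,
    ← Finset.add_sum_erase _ _ (Finset.mem_erase.mpr ⟨hne.symm, hq₂⟩)] at hJ
  have := hpos q₁ hq₁ hb₁
  have := hpos q₂ hq₂ hb₂
  omega

theorem rank_three_subdegrees {ι : Type*} [DecidableEq ι] (Q : Finset ι) {e p : ℕ} (he : e = p - 1)
    (hp : 2 ≤ p) (k δ J : ι → ℤ) (hcard : Q.card = 2)
    (hk : ∀ q ∈ Q, 2 ≤ k q ∧ k q = e * J q + δ q ∧ 1 ≤ J q)
    (hδ : ∑ q ∈ Q, δ q = 1) (hJ : ∑ q ∈ Q, J q = 2)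
    (horth : ∑ q ∈ Q, (δ q : ℚ) ^ 2 / k q = 1) :
    ∃ a : ℕ, 0 < a ∧ p = 2 * a ^ 2 + 2 * a + 1 ∧
      ∀ q ∈ Q, k q = a * (2 * a + 1) ∨ k q = (a + 1) * (2 * a + 1) := by
  obtain ⟨q, q', hne, rfl⟩ := Finset.card_eq_two.mp hcard
  have hq : q ∈ ({q, q'} : Finset ι) := by simp
  have hq' : q' ∈ ({q, q'} : Finset ι) := by simp
  rw [Finset.sum_pair hne] at hδ hJ horth
  obtain ⟨hk2, hkq, hJq⟩ := hk q hq
  obtain ⟨hk2', hkq', hJq'⟩ := hk q' hq'
  have hJ1 : J q = 1 := by omega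
  have hJ1' : J q' = 1 := by omega
  have hδ' : δ q' = 1 - δ q := by omega
  rw [hJ1, mul_one] at hkq
  rw [hJ1', mul_one, hδ'] at hkq'
  have hquad : 2 * δ q ^ 2 - 2 * δ q = (e : ℤ) := by
    rw [hδ', hkq, hkq'] at horth
    push_cast at horth
    have h1 : ((e : ℚ) + δ q) ≠ 0 := by
      have : (2 : ℚ) ≤ ((e : ℤ) + δ q : ℤ) := by exact_mod_cast hkq ▸ hk2
      push_cast at this
      linarith
    have h2 : ((e : ℚ) + (1 - δ q)) ≠ 0 := by
      have : (2 : ℚ) ≤ ((e : ℤ) + (1 - δ q) : ℤ) := by exact_mod_cast hkq' ▸ hk2'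
      push_cast at this
      linarith
    rw [div_add_div _ _ h1 h2, div_eq_one_iff_eq (mul_ne_zero h1 h2)] at horth
    have he1 : (0 : ℚ) < e := by exact_mod_cast (show 0 < e by omega)
    have h3 : (e : ℚ) * (2 * (δ q : ℚ) ^ 2 - 2 * δ q - e) = 0 := by linear_combination horth
    have h4 : 2 * (δ q : ℚ) ^ 2 - 2 * δ q = e := by
      have := (mul_eq_zero.mp h3).resolve_left he1.ne'
      linarith
    exact_mod_cast h4
  have hpe : (p : ℤ) = e + 1 := by omega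
  -- the parameter
  obtain ⟨a, ha, hcase⟩ : ∃ a : ℕ, 0 < a ∧ (δ q = a + 1 ∨ δ q = -(a : ℤ)) := by
    rcases le_or_gt (δ q) 0 with h | h
    · refine ⟨(-δ q).toNat, ?_, Or.inr ?_⟩
      · by_contra h0
        have : δ q = 0 := by omega
        rw [this] at hquad
        omega
      · omega
    · refine ⟨(δ q - 1).toNat, ?_, Or.inl ?_⟩
      · by_contra h0
        have : δ q = 1 := by omega
        rw [this] at hquad
        omega
      · omega
  refine ⟨a, ha, ?_, ?_⟩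
  · have h : (p : ℤ) = 2 * (a : ℤ) ^ 2 + 2 * a + 1 := by
      rcases hcase with h | h <;> rw [h] at hquad <;> linarith
    exact_mod_cast h
  · intro x hx
    have hea : (e : ℤ) = 2 * (a : ℤ) ^ 2 + 2 * a := by
      rcases hcase with h | h <;> rw [h] at hquad <;> linarith
    rcases Finset.mem_insert.mp hx with rfl | hx
    · rcases hcase with h | h
      · exact Or.inr (by rw [hkq, h, hea]; ring)
      · exact Or.inl (by rw [hkq, h, hea]; ring)
    · rw [Finset.mem_singleton] at hx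
      subst hx
      rcases hcase with h | h
      · exact Or.inl (by rw [hkq', h, hea]; ring)
      · exact Or.inr (by rw [hkq', h, hea]; ring)

end Cfsg.Agent.Perm.TwiceP
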