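/-
Primitive, not doubly transitive groups of degree `2 * p`: coordinates adapted to an element of
order `p`.

* `two_trans_of_fixed` : an element of order `p` with a fixed point forces double transitivity
* `two_trans_of_two_suborbits`
* `Setup`, `exists_setup`
* `Setup.eq_pw_of_commute`, `Setup.coord_normalizing`, `Setup.sign_normalizing`
* `Setup.two_le_subdegree`
-/
import Cfsg.Agent.Lib.Perm.Regular
import Mathlib.GroupTheory.GroupAction.Jordan
import Mathlib.GroupTheory.Perm.Cycle.Type
import Mathlib.GroupTheory.Perm.Sign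
import Mathlib.Data.ZMod.Basic

set_option autoImplicit false

namespace Cfsg.Agent.Perm.TwiceP

open MulAction

variable {p : ℕ} {G Ω : Type*} [Group G] [MulAction G Ω]

theorem two_trans_of_fixed [Finite Ω] [FaithfulSMul G Ω] (hp : p.Prime)
    (hΩ : Nat.card Ω = 2 * p) (hprim : IsPreprimitive G Ω) {z : G} (hz : z ^ p = 1) (hz1 : z ≠ 1)
    {x : Ω} (hx : z • x = x) : IsMultiplyPretransitive G Ω 2 := by
  classical
  have : Fintype Ω := Fintype.ofFinite Ω
  have : Fact p.Prime := ⟨hp⟩
  set g : Equiv.Perm Ω := MulAction.toPermHom G Ω z with hg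
  have hgp : g ^ p = 1 := by rw [hg, ← map_pow, hz, map_one]
  have hg1 : g ≠ 1 := fun h => hz1 (FaithfulSMul.eq_of_smul_eq_smul (α := Ω) fun y => by
    rw [one_smul]
    exact Equiv.Perm.congr_fun h y)
  have ho : orderOf g = p := orderOf_eq_prime hgp hg1
  obtain ⟨n, hn⟩ := Equiv.Perm.cycleType_prime_order (σ := g) (ho ▸ hp)
  have hsum : g.support.card = (n + 1) * p := by
    rw [← Equiv.Perm.sum_cycleType, hn, Multiset.sum_replicate, ho, smul_eq_mul]
  have hxs : x ∉ g.support := Equiv.Perm.notMem_support.mpr hx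
  have hlt : g.support.card < 2 * p := by
    rw [← hΩ, Nat.card_eq_fintype_card]
    exact Finset.card_lt_univ_of_notMem hxs
  have hn0 : n = 0 := by
    rw [hsum] at hlt
    have := Nat.lt_of_mul_lt_mul_right hlt
    omega
  subst hn0
  have hcyc : g.IsCycle := Equiv.Perm.card_cycleType_eq_one.mp (by rw [hn, Multiset.card_replicate])
  have hsc : g.support.card = p := by omega
  set s : Set Ω := {y | z • y = y} with hs
  have hsncard : s.ncard = (p - 1) + 1 := by
    have : s = ((g.supportᶜ : Finset Ω) : Set Ω) := by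
      ext y
      simp [hs, hg]
    rw [this, Set.ncard_coe_finset, Finset.card_compl, hsc, ← Nat.card_eq_fintype_card, hΩ]
    have := hp.two_le
    omega
  refine hprim.is_two_pretransitive hsncard (by rw [hΩ]; have := hp.two_le; omega) ⟨?_⟩
  rintro ⟨y, hy⟩ ⟨w, hw⟩
  rw [SubMulAction.mem_ofFixingSubgroup_iff] at hy hw
  obtain ⟨i, hi⟩ := hcyc.sameCycle (x := y) (y := w) (fun h => hy h) (fun h => hw h)
  have hmem : z ∈ fixingSubgroup G s := (mem_fixingSubgroup_iff G).mpr fun _ h => h
  refine ⟨⟨z ^ i, zpow_mem hmem i⟩, Subtype.ext ?_⟩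
  rw [hg, ← map_zpow] at hi
  exact hi

theorem two_trans_of_two_suborbits [IsPretransitive G Ω] (a : Ω)
    (h : Nat.card (orbitRel.Quotient (stabilizer G a) Ω) = 2) :
    IsMultiplyPretransitive G Ω 2 := by
  have key : ∀ b c : Ω, b ≠ a → c ≠ a → ∃ g : G, g • a = a ∧ g • b = c := by
    intro b c hb hc
    have hne : ∀ d : Ω, d ≠ a →
        (⟦d⟧ : orbitRel.Quotient (stabilizer G a) Ω) ≠ ⟦a⟧ := fun d hd e => hd (by
      obtain ⟨g, hg⟩ := orbitRel_apply.mp (Quotient.exact e)
      exact hg.symm.trans g.2)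
    obtain ⟨q, -, hq⟩ := (Nat.card_eq_two_iff' (⟦a⟧ : orbitRel.Quotient (stabilizer G a) Ω)).mp h
    have e : (⟦c⟧ : orbitRel.Quotient (stabilizer G a) Ω) = ⟦b⟧ :=
      (hq _ (hne c hc)).trans (hq _ (hne b hb)).symm
    obtain ⟨g, hg⟩ := orbitRel_apply.mp (Quotient.exact e)
    exact ⟨g, g.2, hg⟩
  rw [is_two_pretransitive_iff]
  intro u v u' v' huv huv'
  obtain ⟨g, hg⟩ := exists_smul_eq G u a
  obtain ⟨g', hg'⟩ := exists_smul_eq G u' a
  obtain ⟨k, hk, hk'⟩ := key (g • v) (g' • v')
    (fun e => huv (smul_left_cancel g (hg.trans e.symm)))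
    (fun e => huv' (smul_left_cancel g' (hg'.trans e.symm)))
  exact ⟨g'⁻¹ * k * g, by rw [mul_smul, mul_smul, hg, hk, ← hg', inv_smul_smul],
    by rw [mul_smul, mul_smul, hk', inv_smul_smul]⟩

/-- A primitive action of degree `2 * p` that is not doubly transitive, with coordinates in which
`gen` is the translation by one on both copies of `ZMod p`. -/
structure Setup (p : ℕ) (G Ω : Type*) [Group G] [MulAction G Ω] where
  gen : G
  coord : Ω ≃ Bool × ZMod p
  coord_gen : ∀ x, coord (gen • x) = ((coord x).1, (coord x).2 + 1)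
  prim : IsPreprimitive G Ω
  not2 : ¬ IsMultiplyPretransitive G Ω 2
  odd : Odd p
  free : ∀ z : G, z ^ p = 1 → ∀ x : Ω, z • x = x → z = 1

namespace Setup

variable (D : Setup p G Ω)

theorem coord_gen_pow (k : ℕ) (x : Ω) :
    D.coord (D.gen ^ k • x) = ((D.coord x).1, (D.coord x).2 + k) := by
  induction k with
  | zero => simp
  | succ k ih => rw [pow_succ', mul_smul, D.coord_gen, ih]; simp [add_assoc]

theorem smul_injective [FaithfulSMul G Ω] {g h : G}
    (e : ∀ x : Ω, D.coord (g • x) = D.coord (h • x)) : g = h :=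
  FaithfulSMul.eq_of_smul_eq_smul (α := Ω) fun x => D.coord.injective (e x)

variable [hp : Fact p.Prime]

/-- The powers of the generator, indexed by `ZMod p`. -/
def pw (n : ZMod p) : G := D.gen ^ n.val

theorem coord_pw (n : ZMod p) (x : Ω) :
    D.coord (D.pw n • x) = ((D.coord x).1, (D.coord x).2 + n) := by
  rw [pw, coord_gen_pow, ZMod.natCast_zmod_val]

variable [FaithfulSMul G Ω]

theorem pw_add (m n : ZMod p) : D.pw (m + n) = D.pw m * D.pw n :=
  D.smul_injective fun x => by
    rw [mul_smul, coord_pw, coord_pw, coord_pw]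
    simp [add_assoc, add_comm m n]

theorem pw_zero : D.pw 0 = 1 := D.smul_injective fun x => by simp [coord_pw]

theorem pw_natCast (k : ℕ) : D.pw (k : ZMod p) = D.gen ^ k :=
  D.smul_injective fun x => by rw [coord_pw, coord_gen_pow]

theorem pw_one : D.pw 1 = D.gen := by rw [← Nat.cast_one, pw_natCast, pow_one]

theorem gen_pow_p : D.gen ^ p = 1 := by rw [← pw_natCast, ZMod.natCast_self, pw_zero]

theorem pw_pow (n : ZMod p) (k : ℕ) : D.pw n ^ k = D.pw (k * n) := by
  induction k with
  | zero => rw [pow_zero, Nat.cast_zero, zero_mul, pw_zero]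
  | succ k ih => rw [pow_succ, ih, ← pw_add, Nat.cast_succ, add_mul, one_mul]

theorem pw_inv (n : ZMod p) : (D.pw n)⁻¹ = D.pw (-n) :=
  inv_eq_of_mul_eq_one_left (by rw [← pw_add, neg_add_cancel, pw_zero])

theorem pw_comm (m n : ZMod p) : Commute (D.pw m) (D.pw n) := by
  rw [Commute, SemiconjBy, ← pw_add, ← pw_add, add_comm]

/-- The base point. -/
def base : Ω := D.coord.symm (false, 0)

omit [FaithfulSMul G Ω] in
theorem pw_injective : Function.Injective D.pw := fun m n e => by
  have := congrArg (fun g => (D.coord (g • D.base)).2) e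
  simpa [coord_pw, base] using this

theorem gen_ne_one : D.gen ≠ 1 := fun e => one_ne_zero (α := ZMod p)
  (D.pw_injective (by rw [pw_one, pw_zero, e]))

theorem orderOf_gen : orderOf D.gen = p := orderOf_eq_prime D.gen_pow_p D.gen_ne_one

/-- Conjugation of the powers of the generator. -/
theorem conj_pw {g : G} {u : ZMod p} (h : g * D.gen * g⁻¹ = D.pw u) (n : ZMod p) :
    g * D.pw n * g⁻¹ = D.pw (u * n) := by
  rw [pw, ← conj_pow, h, pw_pow, ZMod.natCast_zmod_val, mul_comm]

theorem commute_gen_of_commute_pw {z : G} {u : ZMod p} (hu : u ≠ 0) (h : Commute z (D.pw u)) :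
    Commute z D.gen := by
  have h' := h.pow_right (u⁻¹ : ZMod p).val
  rwa [pw_pow, ZMod.natCast_zmod_val, inv_mul_cancel₀ hu, pw_one] at h'

theorem coord_normalizing {g : G} {u : ZMod p} (h : g * D.gen * g⁻¹ = D.pw u) (i : Bool)
    (n : ZMod p) :
    D.coord (g • D.coord.symm (i, n)) =
      ((D.coord (g • D.coord.symm (i, 0))).1, (D.coord (g • D.coord.symm (i, 0))).2 + u * n) := by
  have hx : D.coord.symm (i, n) = D.pw n • D.coord.symm (i, 0) := D.coord.injective (by
    simp [coord_pw])
  rw [hx, ← mul_smul, show g * D.pw n = D.pw (u * n) * g by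
    rw [← D.conj_pw h n, inv_mul_cancel_right], mul_smul, coord_pw]

/-- The side of the image of a side under a normalising element. -/
theorem side_normalizing {g : G} {u : ZMod p} (hu : u ≠ 0) (h : g * D.gen * g⁻¹ = D.pw u)
    (i : Bool) :
    (D.coord (g • D.coord.symm (i, 0))).1 = xor i (D.coord (g • D.base)).1 := by
  cases i
  · simp [base]
  · by_contra hne
    have h1 : (D.coord (g • D.coord.symm (true, 0))).1 = (D.coord (g • D.base)).1 := by
      revert hne
      cases (D.coord (g • D.coord.symm (true, 0))).1 <;> cases (D.coord (g • D.base)).1 <;> simp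
    set d := u⁻¹ * ((D.coord (g • D.base)).2 - (D.coord (g • D.coord.symm (true, 0))).2) with hd
    have h2 : D.coord (g • D.coord.symm (true, d)) = D.coord (g • D.base) := by
      rw [D.coord_normalizing h, h1, hd, mul_inv_cancel_left₀ hu, add_sub_cancel, Prod.mk.eta]
    have h3 := D.coord.symm.injective (smul_left_cancel g (D.coord.injective h2))
    simp at h3

theorem eq_one_of_commute_of_fix {z : G} (hz : Commute z D.gen) {x : Ω} (hx : z • x = x) :
    z = 1 := by
  have h : z * D.gen * z⁻¹ = D.pw 1 := by rw [hz.eq, mul_inv_cancel_right, pw_one]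
  set i := (D.coord x).1 with hi
  have hxx : D.coord.symm (i, (D.coord x).2) = x := by simp [hi]
  have hside : (D.coord (z • D.base)).1 = false := by
    have h1 := D.coord_normalizing h i (D.coord x).2
    rw [hxx, hx] at h1
    have h2 := D.side_normalizing one_ne_zero h i
    rw [← congrArg Prod.fst h1, ← hi] at h2
    revert h2
    cases i <;> cases (D.coord (z • D.base)).1 <;> simp
  have hval : ∀ (k : ℕ) (j : Bool) (n : ZMod p), D.coord (z ^ k • D.coord.symm (j, n)) =
      (j, n + k * (D.coord (z • D.coord.symm (j, 0))).2) := by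
    intro k j
    induction k with
    | zero => simp
    | succ k ih =>
      intro n
      rw [pow_succ', mul_smul, ← D.coord.symm_apply_apply (z ^ k • D.coord.symm (j, n)), ih,
        D.coord_normalizing h, D.side_normalizing one_ne_zero h, hside]
      simp
      ring
  refine D.free z (D.smul_injective fun y => ?_) x hx
  rw [← D.coord.symm_apply_apply y, ← Prod.mk.eta (p := D.coord y), hval p]
  simp

theorem eq_pw_of_commute {z : G} (hz : Commute z D.gen)
    (hside : (D.coord (z • D.base)).1 = false) : z = D.pw (D.coord (z • D.base)).2 := by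
  set d := (D.coord (z • D.base)).2
  have hfix : (D.pw (-d) * z) • D.base = D.base := D.coord.injective (by
    rw [mul_smul, coord_pw, hside]
    simp [d, base])
  have hc : Commute (D.pw (-d) * z) D.gen := by
    refine Commute.mul_left ?_ hz
    rw [← pw_one]
    exact D.pw_comm _ _
  have h1 := D.eq_one_of_commute_of_fix hc hfix
  rw [← pw_inv, inv_mul_eq_one] at h1
  exact h1.symm

omit [FaithfulSMul G Ω] in
theorem not_transitive_of_side (H : Subgroup G)
    (hH : ∀ h ∈ H, (D.coord (h • D.base)).1 = false) : ¬ IsPretransitive H Ω := fun ht => by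
  obtain ⟨⟨h, hh⟩, he⟩ := ht.exists_smul_eq D.base (D.coord.symm (true, 0))
  have := hH h hh
  rw [show h • D.base = D.coord.symm (true, 0) from he] at this
  simp at this

theorem zpowers_gen_not_normal : ¬ (Subgroup.zpowers D.gen).Normal := fun hN => by
  have := D.prim
  refine D.not_transitive_of_side _ (fun h hh => ?_) (isPretransitive_of_normal_ne_bot (G := G)
    (X := Ω) (N := Subgroup.zpowers D.gen) ?_)
  · obtain ⟨k, rfl⟩ := (IsOfFinOrder.mem_powers_iff_mem_zpowers
      (isOfFinOrder_iff_pow_eq_one.mpr ⟨p, hp.out.pos, D.gen_pow_p⟩)).mpr hh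
    simp [coord_gen_pow, base]
  · rw [Ne, Subgroup.zpowers_eq_bot]
    exact D.gen_ne_one

include D in
theorem not_isMulCommutative : ¬ ∀ g h : G, g * h = h * g := fun hc =>
  D.zpowers_gen_not_normal ⟨fun n hn g => by rwa [hc g n, mul_inv_cancel_right]⟩

include D in
omit [FaithfulSMul G Ω] in
theorem card_eq : Nat.card Ω = 2 * p := by
  rw [Nat.card_congr D.coord, Nat.card_prod, Nat.card_zmod]
  simp [Nat.card_eq_fintype_card]

include D in
/-- A non-trivial subdegree is at least two. -/
theorem two_le_subdegree [Finite G] {a b : Ω} (hb : b ≠ a) :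
    2 ≤ Nat.card (orbit (stabilizer G a) b) := by
  have := D.prim
  have : Finite Ω := Nat.finite_of_card_ne_zero (D.card_eq ▸ Nat.mul_ne_zero two_ne_zero hp.out.ne_zero)
  by_contra hlt
  have : Nonempty (orbit (stabilizer G a) b) := (nonempty_orbit _).to_subtype
  have h1 : Nat.card (orbit (stabilizer G a) b) = 1 := by
    have := Nat.card_pos (α := orbit (stabilizer G a) b)
    omega
  have hle : stabilizer G a ≤ stabilizer G b := fun g hg => by
    have h2 := (Nat.card_eq_one_iff_unique.mp h1).1.elim
      (⟨(⟨g, hg⟩ : stabilizer G a) • b, mem_orbit b _⟩ : orbit (stabilizer G a) b)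
      ⟨b, mem_orbit_self b⟩
    exact congrArg Subtype.val h2
  have heq : stabilizer G a = stabilizer G b := by
    refine Subgroup.eq_of_le_of_card_ge hle (le_of_eq ?_)
    obtain ⟨g, rfl⟩ := exists_smul_eq G a b
    exact Nat.card_congr (stabilizerEquivStabilizer (g := g) rfl).symm.toEquiv
  rcases eq_or_all_of_invariant_equivalence (G := G) (X := Ω)
      (fun x y => stabilizer G x = stabilizer G y) ⟨fun _ => rfl, Eq.symm, Eq.trans⟩
      (fun g x y h => by
        rw [stabilizer_smul_eq_stabilizer_map_conj, stabilizer_smul_eq_stabilizer_map_conj, h])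
    with h | h
  · exact hb (h a b heq).symm
  · have hbot : stabilizer G D.base = ⊥ := by
      rw [Subgroup.eq_bot_iff_forall]
      intro g hg
      refine FaithfulSMul.eq_of_smul_eq_smul (α := Ω) fun x => ?_
      rw [one_smul]
      exact (h D.base x ▸ hg : g ∈ stabilizer G x)
    have hG : Nat.card G = 2 * p := by
      rw [← (stabilizer G D.base).index_mul_card, hbot, Subgroup.card_bot, mul_one, ← hbot,
        index_stabilizer_of_transitive, D.card_eq]
    refine D.zpowers_gen_not_normal (Subgroup.normal_of_index_eq_two ?_)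
    have h2 := (Subgroup.zpowers D.gen).index_mul_card
    rw [hG, Nat.card_zpowers, D.orderOf_gen] at h2
    exact Nat.eq_of_mul_eq_mul_right hp.out.pos h2

section Sign

variable [Fintype Ω] [DecidableEq Ω]

theorem sign_affine (hodd : Odd p) (u : (ZMod p)ˣ) (c : ZMod p) :
    Equiv.Perm.sign ((Units.mulLeft u).trans (Equiv.addRight c)) =
      Equiv.Perm.sign (Units.mulLeft u) := by
  have hk : ∀ (k : ℕ) (x : ZMod p), (Equiv.addRight c ^ k) x = x + k * c := by
    intro k
    induction k with
    | zero => simp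
    | succ k ih =>
      intro x
      rw [pow_succ', Equiv.Perm.mul_apply, ih, Equiv.coe_addRight, Nat.cast_succ]
      ring
  have h1 : Equiv.Perm.sign (Equiv.addRight c) = 1 := by
    have h : Equiv.Perm.sign (Equiv.addRight c) ^ p = 1 := by
      rw [← map_pow, show Equiv.addRight c ^ p = 1 from Equiv.ext fun x => by rw [hk]; simp, map_one]
    rcases Int.units_eq_one_or (Equiv.Perm.sign (Equiv.addRight c)) with e | e
    · exact e
    · rw [e, hodd.neg_one_pow] at h
      exact absurd h (by decide)
  rw [Equiv.Perm.sign_trans, h1, one_mul]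

/-- A normalising element is odd exactly if it interchanges the two sides. -/
theorem sign_normalizing {g : G} {u : ZMod p} (hu : u ≠ 0) (h : g * D.gen * g⁻¹ = D.pw u) :
    Equiv.Perm.sign (MulAction.toPerm g : Equiv.Perm Ω) =
      if (D.coord (g • D.base)).1 then -1 else 1 := by
  classical
  set v : (ZMod p)ˣ := Units.mk0 u hu
  set t := (D.coord (g • D.base)).1
  let sw : Bool ≃ Bool := ⟨fun i => xor i t, fun i => xor i t, fun i => by simp, fun i => by simp⟩
  have e : D.coord.permCongr (MulAction.toPerm g) =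
      (Equiv.prodCongrLeft fun _ : ZMod p => sw) * Equiv.prodCongrRight fun i =>
        (Units.mulLeft v).trans (Equiv.addRight (D.coord (g • D.coord.symm (i, 0))).2) := by
    refine Equiv.ext fun ⟨i, n⟩ => ?_
    rw [Equiv.permCongr_apply, MulAction.toPerm_apply, D.coord_normalizing h,
      D.side_normalizing hu h]
    simp [sw, v, t, add_comm]
  rw [← Equiv.Perm.sign_permCongr D.coord, e, map_mul, Equiv.Perm.sign_prodCongrLeft,
    Equiv.Perm.sign_prodCongrRight]
  simp only [sign_affine D.odd, Finset.prod_const, Finset.card_univ, ZMod.card, Fintype.card_bool,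
    Int.units_sq, mul_one]
  cases ht : t
  · have : sw = Equiv.refl Bool := Equiv.ext fun i => by simp [sw, ht]
    simp [this]
  · have : sw = Equiv.swap false true := Equiv.ext fun i => by cases i <;> simp [sw, ht]
    rw [this, Equiv.Perm.sign_swap (by simp), D.odd.neg_one_pow]
    simp

end Sign

end Setup

theorem exists_setup [Finite G] [FaithfulSMul G Ω] [hp : Fact p.Prime] (hodd : Odd p)
    (hΩ : Nat.card Ω = 2 * p) (hprim : IsPreprimitive G Ω)
    (h2 : ¬ IsMultiplyPretransitive G Ω 2) : Nonempty (Setup p G Ω) := by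
  classical
  have : Finite Ω := Nat.finite_of_card_ne_zero (hΩ ▸ Nat.mul_ne_zero two_ne_zero hp.out.ne_zero)
  have : Nonempty Ω :=
    (Nat.card_ne_zero.mp (hΩ ▸ Nat.mul_ne_zero two_ne_zero hp.out.ne_zero)).1
  obtain ⟨a⟩ := ‹Nonempty Ω›
  have hdvd : p ∣ Nat.card G := by
    rw [← (stabilizer G a).index_mul_card, index_stabilizer_of_transitive, hΩ]
    exact Dvd.dvd.mul_right (dvd_mul_left p 2) _
  obtain ⟨s, hs⟩ := exists_prime_orderOf_dvd_card' p hdvd
  have hsp : s ^ p = 1 := by rw [← hs]; exact pow_orderOf_eq_one s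
  have hfree : ∀ z : G, z ^ p = 1 → ∀ x : Ω, z • x = x → z = 1 := fun z hz x hx => by
    by_contra hz1
    exact h2 (two_trans_of_fixed hp.out hΩ hprim hz hz1 hx)
  obtain ⟨b, hb⟩ : ∃ b : Ω, ∀ k : ℕ, s ^ k • a ≠ b := by
    by_contra hcon
    push Not at hcon
    have hle : Nat.card Ω ≤ p := by
      have : Function.Surjective fun i : Fin p => s ^ (i : ℕ) • a := fun b => by
        obtain ⟨k, hk⟩ := hcon b
        refine ⟨⟨k % p, Nat.mod_lt _ hp.out.pos⟩, ?_⟩
        change s ^ (k % p) • a = b
        rw [← pow_eq_pow_mod k hsp, hk]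
      simpa using Nat.card_le_card_of_surjective _ this
    rw [hΩ] at hle
    have := hp.out.pos
    omega
  let e : Bool × ZMod p → Ω := fun q => s ^ q.2.val • (if q.1 then b else a)
  have hpow : ∀ (m n : ZMod p) (x : Ω), s ^ m.val • s ^ n.val • x = s ^ (m + n).val • x := by
    intro m n x
    rw [← mul_smul, ← pow_add, pow_eq_pow_mod _ hsp, ← ZMod.val_add]
  have hfix : ∀ (n : ZMod p) (x : Ω), s ^ n.val • x = x → n = 0 := by
    intro n x hn
    have h1 := hfree (s ^ n.val) (by rw [← pow_mul, mul_comm, pow_mul, hsp, one_pow]) x hn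
    rw [← orderOf_dvd_iff_pow_eq_one, hs] at h1
    exact (ZMod.val_eq_zero n).mp (Nat.eq_zero_of_dvd_of_lt h1 n.val_lt)
  have hinj : Function.Injective e := by
    rintro ⟨i, m⟩ ⟨j, n⟩ he
    change s ^ m.val • (if i then b else a) = s ^ n.val • (if j then b else a) at he
    have h1 := congrArg (fun x => s ^ (-n).val • x) he
    simp only [hpow, neg_add_cancel, ZMod.val_zero, pow_zero, one_smul] at h1
    cases i <;> cases j <;> simp only [Bool.false_eq_true, ↓reduceIte] at h1
    · rw [neg_add_eq_zero.mp (hfix _ _ h1)]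
    · exact absurd h1 (hb _)
    · have h3 := congrArg (fun x => s ^ (-(-n + m)).val • x) h1
      simp only [hpow, neg_add_cancel, ZMod.val_zero, pow_zero, one_smul] at h3
      exact absurd h3.symm (hb _)
    · rw [neg_add_eq_zero.mp (hfix _ _ h1)]
  have hbij : Function.Bijective e :=
    hinj.bijective_of_nat_card_le (by rw [hΩ, Nat.card_prod, Nat.card_zmod]; simp)
  refine ⟨⟨s, (Equiv.ofBijective e hbij).symm, fun x => ?_, hprim, h2, hodd, hfree⟩⟩
  obtain ⟨⟨i, n⟩, rfl⟩ := (Equiv.ofBijective e hbij).surjective x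
  have h1 : s • Equiv.ofBijective e hbij (i, n) = Equiv.ofBijective e hbij (i, n + 1) := by
    rw [Equiv.ofBijective_apply, Equiv.ofBijective_apply]
    change s • s ^ n.val • (if i then b else a) = s ^ (n + 1).val • (if i then b else a)
    rw [add_comm n, ← hpow, ZMod.val_one, pow_one]
  rw [h1, Equiv.symm_apply_apply, Equiv.symm_apply_apply]

end Cfsg.Agent.Perm.TwiceP
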