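/-
The constituents of the permutation character in degree `2 * p`.

* `eig`, `eig_spec`, `eig_unique` : the multiplicities of `ζ ^ i` at the generator
* `twist`, `eig_twist`, `mult_twist`
* `Consts`, `exists_consts` : a rational constituent of degree `p` and one Galois orbit of
  constituents of degree `e`, `e ∣ p - 1`
-/
import Cfsg.Agent.Lib.Perm.TwiceP.Setup
import Cfsg.Agent.Lib.Perm.Subdegrees
import Cfsg.Agent.Lib.GaloisPow.Twist
import Mathlib.Analysis.SpecialFunctions.Complex.CircleAddChar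
import Mathlib.NumberTheory.LegendreSymbol.AddCharacter

set_option autoImplicit false

namespace Cfsg.Agent.Perm.TwiceP

open Cfsg MulAction Perm.Orbital
open scoped ComplexConjugate

variable {p : ℕ} [hp : Fact p.Prime]

/-- `i ↦ exp (2 π I i / p)`. -/
noncomputable def expo (i : ZMod p) : ℂ := ZMod.stdAddChar (N := p) i

theorem expo_add (i j : ZMod p) : expo (i + j) = expo i * expo j :=
  AddChar.map_add_eq_mul _ i j

theorem expo_zero : expo (0 : ZMod p) = 1 := AddChar.map_zero_eq_one _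

theorem expo_natCast_mul (k : ℕ) (i : ZMod p) : expo ((k : ZMod p) * i) = expo i ^ k := by
  rw [← nsmul_eq_mul]
  exact AddChar.map_nsmul_eq_pow _ k i

theorem expo_injective : Function.Injective (expo (p := p)) := ZMod.injective_stdAddChar

theorem isPrimitiveRoot_expo_one : IsPrimitiveRoot (expo (1 : ZMod p)) p := by
  refine IsPrimitiveRoot.mk_of_lt _ hp.out.pos ?_ ?_
  · rw [← expo_natCast_mul, ZMod.natCast_self, zero_mul, expo_zero]
  · intro k hk hkp h
    rw [← expo_natCast_mul, mul_one, ← expo_zero (p := p)] at h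
    have := expo_injective h
    rw [ZMod.natCast_eq_zero_iff] at this
    exact absurd (Nat.le_of_dvd hk this) (by omega)

theorem exists_expo_eq {z : ℂ} (hz : z ^ p = 1) : ∃ i : ZMod p, expo i = z := by
  obtain ⟨k, -, rfl⟩ := isPrimitiveRoot_expo_one.eq_pow_of_pow_eq_one hz
  exact ⟨k, by rw [← expo_natCast_mul, mul_one]⟩

theorem sum_expo_mul (b : ZMod p) :
    ∑ x : ZMod p, expo (x * b) = if b = 0 then (p : ℂ) else 0 := by
  unfold expo
  rw [AddChar.sum_mulShift b (ZMod.isPrimitive_stdAddChar p), ZMod.card]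
  split_ifs <;> simp

/-- Fourier inversion. -/
theorem fourier_inversion (a : ZMod p → ℂ) (j : ZMod p) :
    ∑ n : ZMod p, (∑ i, a i * expo (i * n)) * expo (-j * n) = p * a j := by
  calc ∑ n : ZMod p, (∑ i, a i * expo (i * n)) * expo (-j * n)
      = ∑ i, a i * ∑ n : ZMod p, expo (n * (i - j)) := by
        simp only [Finset.sum_mul, Finset.mul_sum]
        rw [Finset.sum_comm]
        refine Finset.sum_congr rfl fun i _ => Finset.sum_congr rfl fun n _ => ?_
        rw [mul_assoc, ← expo_add]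
        congr 2
        ring
    _ = p * a j := by
        simp [sum_expo_mul, sub_eq_zero, mul_comm]

theorem fourier_unique {a b : ZMod p → ℂ}
    (h : ∀ n, ∑ i, a i * expo (i * n) = ∑ i, b i * expo (i * n)) : a = b := by
  funext j
  have := fourier_inversion a j
  rw [Finset.sum_congr rfl fun n _ => by rw [h n], fourier_inversion b j] at this
  exact (mul_left_cancel₀ (Nat.cast_ne_zero.mpr hp.out.ne_zero) this).symm

/-- A field endomorphism of `ℂ` raises the `p`-th roots of unity to some power. -/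
theorem ringHom_expo (f : ℂ →+* ℂ) : ∃ u : (ZMod p)ˣ, ∀ i : ZMod p, f (expo i) = expo ((u : ZMod p) * i) := by
  obtain ⟨j, hj⟩ := exists_expo_eq (p := p) (z := f (expo (1 : ZMod p))) (by
    rw [← map_pow, isPrimitiveRoot_expo_one.pow_eq_one, map_one])
  have hj0 : j ≠ 0 := fun e => by
    rw [e, expo_zero, ← map_one f] at hj
    rw [← expo_zero (p := p)] at hj
    exact one_ne_zero (expo_injective (f.injective hj)).symm
  refine ⟨Units.mk0 j hj0, fun i => ?_⟩
  obtain ⟨k, rfl⟩ := ZMod.natCast_zmod_surjective i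
  rw [Units.val_mk0, mul_comm j, expo_natCast_mul k j, hj, ← map_pow, ← expo_natCast_mul, mul_one]

theorem exists_ringHom_expo (u : (ZMod p)ˣ) :
    ∃ f : ℂ →+* ℂ, ∀ i : ZMod p, f (expo i) = expo ((u : ZMod p) * i) := by
  obtain ⟨f, hf⟩ := GaloisPow.exists_ringAut hp.out.ne_zero (k := (u : ZMod p).val)
    (ZMod.val_coe_unit_coprime u)
  refine ⟨f.toRingHom, fun i => ?_⟩
  change f (expo i) = _
  rw [hf (expo i) (by rw [← expo_natCast_mul, ZMod.natCast_self, zero_mul, expo_zero]),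
    ← expo_natCast_mul, ZMod.natCast_zmod_val]

variable {G Ω : Type*} [Group G] [MulAction G Ω] [FaithfulSMul G Ω]

namespace Setup

variable (D : Setup p G Ω) [Finite G]

theorem exists_eig {χ : G → ℂ} (hχ : IsCharacter G χ) :
    ∃ m : ZMod p → ℕ, ∀ n, χ (D.pw n) = ∑ i, (m i : ℂ) * expo (i * n) := by
  classical
  obtain ⟨d, ρ, rfl⟩ := hχ
  obtain ⟨b, μ, hμ, hroot⟩ := Char.exists_eigenbasis ρ D.gen
  have hex : ∀ k, ∃ i : ZMod p, expo i = μ k := fun k =>
    exists_expo_eq (by rw [← D.orderOf_gen]; exact hroot k)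
  choose e he using hex
  refine ⟨fun i => (Finset.univ.filter fun k => e k = i).card, fun n => ?_⟩
  rw [show D.pw n = D.gen ^ n.val from rfl, Char.character_pow ρ D.gen b μ hμ,
    ← Finset.sum_fiberwise Finset.univ e]
  refine Finset.sum_congr rfl fun i _ => ?_
  rw [Finset.sum_congr rfl (g := fun _ => expo (i * n)), Finset.sum_const, nsmul_eq_mul]
  intro k hk
  rw [← he, (Finset.mem_filter.mp hk).2, ← expo_natCast_mul, ZMod.natCast_zmod_val, mul_comm]

open Classical in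
/-- The multiplicity of `expo i` as an eigenvalue at the generator. -/
noncomputable def eig (χ : G → ℂ) : ZMod p → ℕ :=
  if h : IsCharacter G χ then (D.exists_eig h).choose else 0

theorem eig_spec {χ : G → ℂ} (hχ : IsCharacter G χ) (n : ZMod p) :
    χ (D.pw n) = ∑ i, (D.eig χ i : ℂ) * expo (i * n) := by
  rw [eig, dif_pos hχ]
  exact (D.exists_eig hχ).choose_spec n

theorem eig_unique {χ : G → ℂ} (hχ : IsCharacter G χ) {a : ZMod p → ℂ}
    (h : ∀ n, χ (D.pw n) = ∑ i, a i * expo (i * n)) (i : ZMod p) : (D.eig χ i : ℂ) = a i :=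
  congrFun (fourier_unique (a := fun i => (D.eig χ i : ℂ)) fun n => (D.eig_spec hχ n).symm.trans (h n)) i

theorem sum_eig {χ : G → ℂ} (hχ : IsCharacter G χ) : χ 1 = ((∑ i, D.eig χ i : ℕ) : ℂ) := by
  have := D.eig_spec hχ 0
  simpa [D.pw_zero, expo_zero] using this

/-- The Galois twist of an irreducible character. -/
noncomputable def twist (f : ℂ →+* ℂ) (χ : IrrCharacter G) : IrrCharacter G :=
  ⟨fun g => f ((χ : G → ℂ) g), GaloisPow.isIrrCharacter_twist f χ.2⟩

omit [MulAction G Ω] [FaithfulSMul G Ω] hp in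
@[simp] theorem twist_apply (f : ℂ →+* ℂ) (χ : IrrCharacter G) (g : G) :
    (twist f χ : G → ℂ) g = f ((χ : G → ℂ) g) := rfl

theorem eig_twist {f : ℂ →+* ℂ} {u : (ZMod p)ˣ} (hf : ∀ i : ZMod p, f (expo i) = expo ((u : ZMod p) * i))
    (χ : IrrCharacter G) (i : ZMod p) :
    D.eig (twist f χ : G → ℂ) ((u : ZMod p) * i) = D.eig (χ : G → ℂ) i := by
  have h := D.eig_unique (Char.IsIrrCharacter.isCharacter (twist f χ).2)
    (a := fun j => (D.eig (χ : G → ℂ) (((u⁻¹ : (ZMod p)ˣ) : ZMod p) * j) : ℂ)) (fun n => ?_) ((u : ZMod p) * i)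
  · simp only [Units.inv_mul_cancel_left] at h
    exact_mod_cast h
  · rw [twist_apply, D.eig_spec (Char.IsIrrCharacter.isCharacter χ.2), map_sum]
    refine (Fintype.sum_equiv (Units.mulLeft u⁻¹) _ _ fun j => ?_).symm
    rw [Units.mulLeft_apply, map_mul, map_natCast, hf, ← mul_assoc (u : ZMod p),
      Units.mul_inv_cancel_left]

variable [Fintype G] [Fintype Ω] [DecidableEq Ω]

omit [FaithfulSMul G Ω] [DecidableEq Ω] hp in
theorem mult_twist (f : ℂ →+* ℂ) (χ : IrrCharacter G) :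
    mult G Ω (twist f χ : G → ℂ) = mult G Ω (χ : G → ℂ) := by
  have hc := Char.IsIrrCharacter.isCharacter (twist f χ).2
  have hc' := Char.IsIrrCharacter.isCharacter χ.2
  have h : classInner (pi G Ω) (twist f χ : G → ℂ) = f (classInner (pi G Ω) (χ : G → ℂ)) := by
    rw [classInner, classInner, map_mul, map_inv₀, map_natCast, map_sum]
    congr 1
    refine Finset.sum_congr rfl fun g _ => ?_
    rw [← Char.IsCharacter.apply_inv hc, ← Char.IsCharacter.apply_inv hc', map_mul, pi, map_natCast,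
      twist_apply]
  rw [classInner_pi hc, classInner_pi hc', map_natCast] at h
  exact_mod_cast h

omit [Fintype Ω] [DecidableEq Ω] [Fintype G] [Finite G] in
theorem pi_pw (n : ZMod p) : pi G Ω (D.pw n) = if n = 0 then ((2 * p : ℕ) : ℂ) else 0 := by
  by_cases hn : n = 0
  · subst hn
    rw [if_pos rfl, pi, D.pw_zero,
      show fixedBy Ω (1 : G) = Set.univ from Set.eq_univ_of_forall fun x => one_smul G x,
      Nat.card_univ, D.card_eq]
  · have : fixedBy Ω (D.pw n) = ∅ := Set.eq_empty_of_forall_notMem fun x hx => hn (by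
      have h := D.coord_pw n x
      rw [show D.pw n • x = x from hx] at h
      simpa using congrArg Prod.snd h)
    rw [if_neg hn, pi, this]
    simp

omit [DecidableEq Ω] in
theorem sum_mult_eig [Fintype (IrrCharacter G)] (i : ZMod p) :
    ∑ χ : IrrCharacter G, mult G Ω (χ : G → ℂ) * D.eig (χ : G → ℂ) i = 2 := by
  have hπ := isCharacter_pi (G := G) (Ω := Ω)
  have hexp : ∀ g, pi G Ω g = ∑ χ : IrrCharacter G, (mult G Ω (χ : G → ℂ) : ℂ) * (χ : G → ℂ) g := by
    intro g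
    conv_lhs => rw [Char.classFunction_eq_sum (Char.IsCharacter.isClassFunction hπ)]
    simp only [Finset.sum_apply, Pi.smul_apply, smul_eq_mul,
      classInner_pi (Char.IsIrrCharacter.isCharacter (Subtype.prop (_ : IrrCharacter G)))]
  have h1 := D.eig_unique hπ (a := fun i => ((∑ χ : IrrCharacter G,
    mult G Ω (χ : G → ℂ) * D.eig (χ : G → ℂ) i : ℕ) : ℂ)) (fun n => by
      rw [hexp, Finset.sum_congr rfl fun χ _ => by
        rw [D.eig_spec (Char.IsIrrCharacter.isCharacter χ.2), Finset.mul_sum]]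
      rw [Finset.sum_comm]
      simp only [Nat.cast_sum, Nat.cast_mul, Finset.sum_mul, mul_assoc]) i
  have h2 := D.eig_unique hπ (a := fun _ => (2 : ℂ)) (fun n => by
    rw [D.pi_pw, ← Finset.mul_sum, sum_expo_mul]
    split_ifs <;> simp) i
  exact_mod_cast h1.symm.trans h2

/-- The principal character. -/
def triv : IrrCharacter G := ⟨fun _ => 1, Char.isIrrCharacter_one⟩

omit [Fintype G] [Fintype Ω] [DecidableEq Ω] in
theorem eig_triv (i : ZMod p) :
    D.eig (triv : IrrCharacter G).1 i = if i = 0 then 1 else 0 := by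
  have h := D.eig_unique (Char.IsIrrCharacter.isCharacter (triv (G := G)).2)
    (a := fun i => if i = 0 then 1 else 0) (fun n => by simp [triv, expo_zero]) i
  split_ifs with h0
  · rw [if_pos h0] at h
    exact_mod_cast h
  · rw [if_neg h0] at h
    exact_mod_cast h

include D in
omit [DecidableEq Ω] in
/-- A non-principal constituent is faithful. -/
theorem injective_of_constituent (χ : IrrCharacter G) (hχ : χ ≠ triv)
    (hm : mult G Ω (χ : G → ℂ) ≠ 0) {d : ℕ} (ρ : Representation ℂ G (Fin d → ℂ))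
    (hρ : ρ.character = (χ : G → ℂ)) : Function.Injective ρ := by
  classical
  have := Fintype.ofFinite (IrrCharacter G)
  have := D.prim
  have : Nonempty Ω := ⟨D.base⟩
  let ρ' : G →* Module.End ℂ (Fin d → ℂ) := ρ
  set K := ρ'.ker
  suffices hbot : K = ⊥ by
    intro g h e
    have hmem : g * h⁻¹ ∈ K := by
      change ρ (g * h⁻¹) = 1
      rw [map_mul, e, ← map_mul, mul_inv_cancel, map_one]
    rw [hbot, Subgroup.mem_bot, mul_inv_eq_one] at hmem
    exact hmem
  by_contra hK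
  have := isPretransitive_of_normal_ne_bot (G := G) (X := Ω) hK
  have h1 : classInner (pi K Ω) (fun _ => (1 : ℂ)) = 1 := by
    have h := Char.classInner_fixedPoints_one (G := K) Ω
    rw [Nat.card_eq_one_iff_unique.mpr ⟨(pretransitive_iff_subsingleton_quotient K Ω).mp ‹_›,
      ⟨Quotient.mk _ D.base⟩⟩, Nat.cast_one] at h
    exact h
  have hexp : pi K Ω = ∑ φ : IrrCharacter G,
      (mult G Ω (φ : G → ℂ) : ℂ) • fun k : K => (φ : G → ℂ) k := by
    funext k
    have h := congrFun (Char.classFunction_eq_sum (Char.IsCharacter.isClassFunction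
      (isCharacter_pi (G := G) (Ω := Ω)))) (k : G)
    simp only [Finset.sum_apply, Pi.smul_apply, smul_eq_mul,
      classInner_pi (Char.IsIrrCharacter.isCharacter (Subtype.prop (_ : IrrCharacter G)))] at h ⊢
    exact h
  rw [hexp, Char.classInner_sum_left] at h1
  have hnat : ∀ φ : IrrCharacter G, ∃ t : ℕ,
      classInner (fun k : K => (φ : G → ℂ) k) (fun _ => (1 : ℂ)) = t := fun φ =>
    Char.IsCharacter.classInner_nat
      (Char.IsCharacter.restrict (Char.IsIrrCharacter.isCharacter φ.2) K) Char.isCharacter_one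
  choose t ht using hnat
  simp only [Char.classInner_smul_left, ht, ← Nat.cast_mul] at h1
  rw [← Nat.cast_sum, ← Nat.cast_one, Nat.cast_inj] at h1
  have hKcard : (Nat.card K : ℂ) ≠ 0 := Nat.cast_ne_zero.2 Nat.card_pos.ne'
  have hconst : ∀ (φ : IrrCharacter G) (c : ℂ), (∀ k : K, (φ : G → ℂ) k = c) →
      classInner (fun k : K => (φ : G → ℂ) k) (fun _ => (1 : ℂ)) = c := by
    intro φ c h
    rw [classInner]
    simp only [h, map_one, mul_one, Finset.sum_const, Finset.card_univ, nsmul_eq_mul]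
    rw [← Nat.card_eq_fintype_card, inv_mul_cancel_left₀ hKcard]
  have ht1 : t triv = 1 := by
    have := (ht triv).symm.trans (hconst triv 1 fun _ => rfl)
    exact_mod_cast this
  have htχ : t χ ≠ 0 := fun e => Char.IsIrrCharacter.apply_one_ne_zero χ.2 (by
    have := (ht χ).symm.trans (hconst χ ((χ : G → ℂ) 1) fun k => by
      rw [← hρ, Representation.character, Representation.character,
        show ρ (k : G) = 1 from k.2, map_one ρ])
    rw [← this, e, Nat.cast_zero])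
  have h2 : mult G Ω (triv : IrrCharacter G).1 * t triv + mult G Ω (χ : G → ℂ) * t χ ≤ 1 := by
    rw [← h1, ← Finset.sum_pair (f := fun φ : IrrCharacter G => mult G Ω (φ : G → ℂ) * t φ) (Ne.symm hχ)]
    exact Finset.sum_le_sum_of_subset (Finset.subset_univ _)
  rw [show mult G Ω (triv : IrrCharacter G).1 = 1 from mult_one, ht1] at h2
  have : 0 < mult G Ω (χ : G → ℂ) * t χ := Nat.pos_of_ne_zero (Nat.mul_ne_zero hm htχ)
  omega

omit [DecidableEq Ω] in
/-- A non-principal constituent is not trivial at the generator. -/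
theorem exists_eig_pos (χ : IrrCharacter G) (hχ : χ ≠ triv)
    (hm : mult G Ω (χ : G → ℂ) ≠ 0) : ∃ i : ZMod p, i ≠ 0 ∧ 0 < D.eig (χ : G → ℂ) i := by
  by_contra hcon
  push Not at hcon
  obtain ⟨d, ρ, hirr, hρ⟩ := χ.2
  have hc := Char.IsIrrCharacter.isCharacter χ.2
  have hgen : (χ : G → ℂ) D.gen = (χ : G → ℂ) 1 := by
    rw [D.sum_eig hc, ← D.pw_one, D.eig_spec hc, Nat.cast_sum]
    refine Finset.sum_congr rfl fun i _ => ?_
    by_cases hi : i = 0
    · rw [hi, zero_mul, expo_zero, mul_one]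
    · rw [Nat.le_zero.mp (hcon i hi), Nat.cast_zero, zero_mul]
  have hgker : ρ D.gen = 1 := (Char.character_eq_finrank_iff ρ D.gen).mp (by
    rw [hρ, hgen, ← hρ, Representation.char_one])
  exact D.gen_ne_one (D.injective_of_constituent χ hχ hm ρ hρ (by rw [hgker, map_one]))

open Classical in
/-- The constituents of the permutation character. -/
structure Consts where
  psi : IrrCharacter G
  Y : IrrCharacter G
  S : Subgroup (ZMod p)ˣ
  R : Finset (IrrCharacter G)
  eig_psi : ∀ i, D.eig (psi : G → ℂ) i = 1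
  twist_psi : ∀ f : ℂ →+* ℂ, twist f psi = psi
  mult_psi : mult G Ω (psi : G → ℂ) = 1
  mem_S : ∀ u : (ZMod p)ˣ, u ∈ S ↔ D.eig (Y : G → ℂ) u = 1
  eig_Y_le : ∀ i, D.eig (Y : G → ℂ) i ≤ 1
  twist_Y : ∀ (f : ℂ →+* ℂ) (u : (ZMod p)ˣ),
    (∀ i : ZMod p, f (expo i) = expo ((u : ZMod p) * i)) → u ∈ S → twist f Y = Y
  Y_mem : Y ∈ R
  triv_notMem : triv ∉ R
  psi_notMem : psi ∉ R
  psi_ne_triv : psi ≠ triv
  mult_R : ∀ χ ∈ R, mult G Ω (χ : G → ℂ) = 1
  eig_R_zero : ∀ χ ∈ R, D.eig (χ : G → ℂ) 0 = 0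
  eig_R_le : ∀ χ ∈ R, ∀ i, D.eig (χ : G → ℂ) i ≤ 1
  sum_R : ∀ χ ∈ R, ∑ i, D.eig (χ : G → ℂ) i = Nat.card S
  cases : ∀ χ : IrrCharacter G, mult G Ω (χ : G → ℂ) ≠ 0 → χ = triv ∨ χ = psi ∨ χ ∈ R
  card_mul : R.card * Nat.card S = p - 1

theorem exists_consts : Nonempty D.Consts := by
  classical
  have := D.prim
  have : Nonempty Ω := ⟨D.base⟩
  have := Fintype.ofFinite (IrrCharacter G)
  set C := Finset.univ.filter fun χ : IrrCharacter G => mult G Ω (χ : G → ℂ) ≠ 0 ∧ χ ≠ triv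
    with hCdef
  have hC : ∀ χ, χ ∈ C ↔ mult G Ω (χ : G → ℂ) ≠ 0 ∧ χ ≠ triv := fun χ => by simp [C]
  have hCsum : ∀ i : ZMod p, (if i = 0 then 1 else 0) +
      ∑ χ ∈ C, mult G Ω (χ : G → ℂ) * D.eig (χ : G → ℂ) i = 2 := by
    intro i
    rw [← D.sum_mult_eig i, ← Finset.add_sum_erase _ _ (Finset.mem_univ triv),
      show mult G Ω (triv : IrrCharacter G).1 = 1 from mult_one, one_mul, D.eig_triv]
    congr 1
    refine Finset.sum_subset (fun χ hχ => Finset.mem_erase.mpr ⟨((hC χ).mp hχ).2, Finset.mem_univ _⟩)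
      fun χ hχ hχ' => ?_
    by_cases h0 : mult G Ω (χ : G → ℂ) = 0
    · rw [h0, zero_mul]
    · exact absurd ((hC χ).mpr ⟨h0, Finset.ne_of_mem_erase hχ⟩) hχ'
  have hle : ∀ (χ : IrrCharacter G), χ ∈ C → ∀ i, mult G Ω (χ : G → ℂ) * D.eig (χ : G → ℂ) i ≤
      ∑ φ ∈ C, mult G Ω (φ : G → ℂ) * D.eig (φ : G → ℂ) i := fun χ hχ i =>
    Finset.single_le_sum (f := fun φ : IrrCharacter G => mult G Ω (φ : G → ℂ) * D.eig (φ : G → ℂ) i)
      (fun _ _ => Nat.zero_le _) hχ
  have htwC : ∀ (f : ℂ →+* ℂ) χ, χ ∈ C → twist f χ ∈ C := by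
    intro f χ hχ
    rw [hC, mult_twist]
    refine ⟨((hC χ).mp hχ).1, fun e => ((hC χ).mp hχ).2 (Subtype.ext (funext fun g => ?_))⟩
    have := congrFun (congrArg Subtype.val e) g
    rw [twist_apply] at this
    exact f.injective (this.trans (map_one f).symm)
  -- the constituent with a fixed vector of the generator
  have h0 : ∑ χ ∈ C, mult G Ω (χ : G → ℂ) * D.eig (χ : G → ℂ) 0 = 1 := by
    have := hCsum 0
    rw [if_pos rfl] at this
    omega
  obtain ⟨ψ, hψC, hψ0⟩ := Finset.exists_ne_zero_of_sum_ne_zero (by rw [h0]; exact one_ne_zero)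
  have hψ0' : mult G Ω (ψ : G → ℂ) = 1 ∧ D.eig (ψ : G → ℂ) 0 = 1 := by
    have h1 := hle ψ hψC 0
    rw [h0] at h1
    exact mul_eq_one.mp (le_antisymm h1 (Nat.pos_of_ne_zero hψ0))
  have hψuniq : ∀ χ ∈ C, χ ≠ ψ → D.eig (χ : G → ℂ) 0 = 0 := by
    intro χ hχ hne
    by_contra hpos
    have h1 := Finset.sum_le_sum_of_subset
      (f := fun φ : IrrCharacter G => mult G Ω (φ : G → ℂ) * D.eig (φ : G → ℂ) 0)
      (show {χ, ψ} ⊆ C by simp [Finset.insert_subset_iff, hχ, hψC])
    rw [Finset.sum_pair hne, h0, hψ0'.1, hψ0'.2, one_mul] at h1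
    have := Nat.pos_of_ne_zero (Nat.mul_ne_zero ((hC χ).mp hχ).1 hpos)
    omega
  have hψtw : ∀ f : ℂ →+* ℂ, twist f ψ = ψ := by
    intro f
    obtain ⟨u, hu⟩ := ringHom_expo (p := p) f
    by_contra hne
    have h1 := hψuniq _ (htwC f ψ hψC) hne
    have h2 := D.eig_twist hu ψ 0
    rw [mul_zero, hψ0'.2, h1] at h2
    exact zero_ne_one h2
  have hψconst : ∀ u : (ZMod p)ˣ, D.eig (ψ : G → ℂ) u = D.eig (ψ : G → ℂ) 1 := by
    intro u
    obtain ⟨f, hf⟩ := exists_ringHom_expo (p := p) u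
    have := D.eig_twist hf ψ 1
    rwa [hψtw, mul_one] at this
  have hone : ∀ i : ZMod p, i ≠ 0 → ∑ χ ∈ C, mult G Ω (χ : G → ℂ) * D.eig (χ : G → ℂ) i = 2 := by
    intro i hi
    have := hCsum i
    rw [if_neg hi] at this
    omega
  have hψ1 : D.eig (ψ : G → ℂ) 1 = 1 := by
    obtain ⟨i, hi, hpos⟩ := D.exists_eig_pos ψ ((hC ψ).mp hψC).2 ((hC ψ).mp hψC).1
    rw [← Units.val_mk0 hi, hψconst] at hpos
    have h2 := hle ψ hψC 1
    rw [hone 1 one_ne_zero, hψ0'.1, one_mul] at h2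
    by_contra hne
    have hc2 : D.eig (ψ : G → ℂ) 1 = 2 := by omega
    have hCψ : C = {ψ} := by
      refine Finset.eq_singleton_iff_unique_mem.mpr ⟨hψC, fun χ hχ => ?_⟩
      by_contra hne'
      obtain ⟨j, hj, hjpos⟩ := D.exists_eig_pos χ ((hC χ).mp hχ).2 ((hC χ).mp hχ).1
      have h1 := Finset.sum_le_sum_of_subset
        (f := fun φ : IrrCharacter G => mult G Ω (φ : G → ℂ) * D.eig (φ : G → ℂ) j)
        (show {χ, ψ} ⊆ C by simp [Finset.insert_subset_iff, hχ, hψC])
      rw [Finset.sum_pair hne', hone j hj, hψ0'.1, one_mul, ← Units.val_mk0 hj, hψconst, hc2,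
        Units.val_mk0] at h1
      have := Nat.pos_of_ne_zero (Nat.mul_ne_zero ((hC χ).mp hχ).1 hjpos.ne')
      omega
    refine D.not2 (two_trans_of_two_suborbits D.base ?_)
    rw [card_suborbits, card_orbitals_eq_sum, ← Finset.add_sum_erase _ _ (Finset.mem_univ triv),
      show mult G Ω (triv : IrrCharacter G).1 = 1 from mult_one]
    rw [← Finset.sum_subset (s₁ := C)
      (fun χ hχ => Finset.mem_erase.mpr ⟨((hC χ).mp hχ).2, Finset.mem_univ _⟩) fun χ hχ hχ' => ?_]
    · rw [hCψ, Finset.sum_singleton, hψ0'.1]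
      norm_num
    · by_contra hne'
      exact hχ' ((hC χ).mpr ⟨fun e => hne' (by rw [e]; rfl), Finset.ne_of_mem_erase hχ⟩)
  have hψall : ∀ i, D.eig (ψ : G → ℂ) i = 1 := by
    intro i
    by_cases hi : i = 0
    · rw [hi, hψ0'.2]
    · rw [← Units.val_mk0 hi, hψconst, hψ1]
  set R := C.erase ψ with hRdef
  have hRC : ∀ χ ∈ R, χ ∈ C := fun χ h => Finset.mem_of_mem_erase h
  have hR0 : ∀ χ ∈ R, D.eig (χ : G → ℂ) 0 = 0 := fun χ h =>
    hψuniq χ (hRC χ h) (Finset.ne_of_mem_erase h)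
  have hRsum : ∀ i : ZMod p, i ≠ 0 →
      ∑ χ ∈ R, mult G Ω (χ : G → ℂ) * D.eig (χ : G → ℂ) i = 1 := by
    intro i hi
    have := hone i hi
    rw [← Finset.add_sum_erase _ _ hψC, hψ0'.1, hψall, ← hRdef] at this
    omega
  have hRle : ∀ χ ∈ R, ∀ i, mult G Ω (χ : G → ℂ) * D.eig (χ : G → ℂ) i ≤ 1 := by
    intro χ hχ i
    by_cases hi : i = 0
    · rw [hi, hR0 χ hχ, mul_zero]
      exact zero_le_one
    · rw [← hRsum i hi]
      exact Finset.single_le_sum
        (f := fun φ : IrrCharacter G => mult G Ω (φ : G → ℂ) * D.eig (φ : G → ℂ) i)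
        (fun _ _ => Nat.zero_le _) hχ
  have hRm : ∀ χ ∈ R, mult G Ω (χ : G → ℂ) = 1 := by
    intro χ hχ
    obtain ⟨i, -, hpos⟩ := D.exists_eig_pos χ ((hC χ).mp (hRC χ hχ)).2 ((hC χ).mp (hRC χ hχ)).1
    have h1 := hRle χ hχ i
    have h2 := Nat.pos_of_ne_zero (Nat.mul_ne_zero ((hC χ).mp (hRC χ hχ)).1 hpos.ne')
    exact (mul_eq_one.mp (le_antisymm h1 h2)).1
  have hRe : ∀ χ ∈ R, ∀ i, D.eig (χ : G → ℂ) i ≤ 1 := fun χ hχ i => by
    simpa [hRm χ hχ] using hRle χ hχ i
  have hRone : ∀ i : ZMod p, i ≠ 0 → ∑ χ ∈ R, D.eig (χ : G → ℂ) i = 1 := fun i hi => by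
    rw [← hRsum i hi]
    exact Finset.sum_congr rfl fun χ hχ => by rw [hRm χ hχ, one_mul]
  have huniq : ∀ χ ∈ R, ∀ χ' ∈ R, ∀ i : ZMod p, i ≠ 0 → D.eig (χ : G → ℂ) i = 1 →
      D.eig (χ' : G → ℂ) i = 1 → χ = χ' := by
    intro χ hχ χ' hχ' i hi h1 h2
    by_contra hne
    have h3 := Finset.sum_le_sum_of_subset (f := fun φ : IrrCharacter G => D.eig (φ : G → ℂ) i)
      (show {χ, χ'} ⊆ R by simp [Finset.insert_subset_iff, hχ, hχ'])
    rw [Finset.sum_pair hne, h1, h2, hRone i hi] at h3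
    omega
  have htwR : ∀ (f : ℂ →+* ℂ) χ, χ ∈ R → twist f χ ∈ R := by
    intro f χ hχ
    refine Finset.mem_erase.mpr ⟨fun e => ?_, htwC f χ (hRC χ hχ)⟩
    obtain ⟨u, hu⟩ := ringHom_expo (p := p) f
    have h := D.eig_twist hu χ 0
    rw [mul_zero, e, hψall, hR0 χ hχ] at h
    exact one_ne_zero h
  obtain ⟨Y, hY, hY1⟩ := Finset.exists_ne_zero_of_sum_ne_zero
    (by rw [hRone 1 one_ne_zero]; exact one_ne_zero :
      ∑ χ ∈ R, D.eig (χ : G → ℂ) 1 ≠ 0)
  have hY1' : D.eig (Y : G → ℂ) 1 = 1 := le_antisymm (hRe Y hY 1) (Nat.pos_of_ne_zero hY1)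
  have htwY : ∀ (f : ℂ →+* ℂ) (u : (ZMod p)ˣ), (∀ i : ZMod p, f (expo i) = expo ((u : ZMod p) * i)) →
      D.eig (Y : G → ℂ) u = 1 → twist f Y = Y := by
    intro f u hf hu
    refine huniq _ (htwR f Y hY) Y hY u u.ne_zero ?_ hu
    have := D.eig_twist hf Y 1
    rwa [mul_one, hY1'] at this
  have hshift : ∀ u : (ZMod p)ˣ, D.eig (Y : G → ℂ) u = 1 →
      ∀ i : ZMod p, D.eig (Y : G → ℂ) ((u : ZMod p) * i) = D.eig (Y : G → ℂ) i := by
    intro u hu i
    obtain ⟨f, hf⟩ := exists_ringHom_expo (p := p) u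
    have := D.eig_twist hf Y i
    rwa [htwY f u hf hu] at this
  let S : Subgroup (ZMod p)ˣ :=
    { carrier := {u | D.eig (Y : G → ℂ) u = 1}
      mul_mem' := fun {u v} (hu : D.eig (Y : G → ℂ) u = 1) (hv : D.eig (Y : G → ℂ) v = 1) => by
        change D.eig (Y : G → ℂ) ((u * v : (ZMod p)ˣ) : ZMod p) = 1
        rw [Units.val_mul, hshift u hu, hv]
      one_mem' := by simpa using hY1'
      inv_mem' := fun {u} (hu : D.eig (Y : G → ℂ) u = 1) => by
        change D.eig (Y : G → ℂ) ((u⁻¹ : (ZMod p)ˣ) : ZMod p) = 1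
        rw [← hshift u hu, Units.mul_inv, hY1'] }
  have hunits : ∀ g : ZMod p → ℕ, g 0 = 0 → ∑ i, g i = ∑ u : (ZMod p)ˣ, g u := by
    intro g hg
    refine (Finset.sum_bij_ne_zero (fun (u : (ZMod p)ˣ) _ _ => (u : ZMod p)) (fun u _ _ => Finset.mem_univ _)
      (fun u _ _ v _ _ h => by ext; exact h) (fun i _ hi => ?_) fun u _ _ => rfl).symm
    have hi0 : i ≠ 0 := fun e => hi (by rw [e, hg])
    exact ⟨Units.mk0 i hi0, Finset.mem_univ _, hi, rfl⟩
  have hSsum : ∀ χ ∈ R, ∑ i, D.eig (χ : G → ℂ) i = Nat.card S := by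
    intro χ hχ
    obtain ⟨i, hi, hpos⟩ := D.exists_eig_pos χ ((hC χ).mp (hRC χ hχ)).2 ((hC χ).mp (hRC χ hχ)).1
    obtain ⟨f, hf⟩ := exists_ringHom_expo (p := p) (Units.mk0 i hi)
    have he : twist f Y = χ := by
      refine huniq _ (htwR f Y hY) χ hχ i hi ?_ (le_antisymm (hRe χ hχ i) hpos)
      have := D.eig_twist hf Y 1
      rwa [mul_one, Units.val_mk0, hY1'] at this
    calc ∑ j, D.eig (χ : G → ℂ) j = ∑ j, D.eig (Y : G → ℂ) j :=
          (Fintype.sum_equiv (Units.mulLeft (Units.mk0 i hi)) _ _ fun j => by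
            rw [← he]
            exact (D.eig_twist hf Y j).symm).symm
      _ = ∑ u : (ZMod p)ˣ, D.eig (Y : G → ℂ) u := hunits _ (hR0 Y hY)
      _ = ∑ u : (ZMod p)ˣ, if D.eig (Y : G → ℂ) u = 1 then 1 else 0 :=
          Finset.sum_congr rfl fun u _ => by
            have := hRe Y hY u
            split_ifs <;> omega
      _ = Nat.card S := by
          rw [Finset.sum_boole, ← Fintype.card_subtype, ← Nat.card_eq_fintype_card]
          rfl
  refine ⟨{
    psi := ψ, Y := Y, S := S, R := R, eig_psi := hψall, twist_psi := hψtw, mult_psi := hψ0'.1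
    mem_S := fun _ => Iff.rfl, eig_Y_le := hRe Y hY, twist_Y := htwY, Y_mem := hY
    triv_notMem := fun h => ((hC _).mp (hRC _ h)).2 rfl
    psi_notMem := Finset.notMem_erase ψ C
    psi_ne_triv := ((hC ψ).mp hψC).2
    mult_R := hRm, eig_R_zero := hR0, eig_R_le := hRe, sum_R := hSsum
    cases := fun χ hχ => ?_, card_mul := ?_ }⟩
  · by_cases h1 : χ = triv
    · exact Or.inl h1
    by_cases h2 : χ = ψ
    · exact Or.inr (Or.inl h2)
    exact Or.inr (Or.inr (Finset.mem_erase.mpr ⟨h2, (hC χ).mpr ⟨hχ, h1⟩⟩))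
  · rw [← smul_eq_mul, ← Finset.sum_const, ← Finset.sum_congr rfl hSsum, Finset.sum_comm,
      hunits (fun i => ∑ χ ∈ R, D.eig (χ : G → ℂ) i) (Finset.sum_eq_zero hR0),
      Finset.sum_congr rfl fun (u : (ZMod p)ˣ) _ => hRone u u.ne_zero]
    simp [Nat.totient_prime hp.out]

end Setup

end Cfsg.Agent.Perm.TwiceP
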