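/-
The centraliser and the normaliser of the generator in degree `2 * p`.

* `Setup.eq_pw` : the centraliser of the generator is the group it generates
* `Setup.exists_normalizing` : for `r ≥ 2` every `s ∈ S` is induced by the normaliser
* `Setup.mem_S_of_normalizing` : and nothing else is
-/
import Cfsg.Agent.Lib.Perm.TwiceP.Constituents

set_option autoImplicit false

namespace Cfsg.Agent.Perm.TwiceP

open Cfsg MulAction Perm.Orbital
open scoped ComplexConjugate

variable {p : ℕ} [hp : Fact p.Prime]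

/-- `(p - 1)` times the mean square of a character with eigenvalue multiplicities `m`. -/
def spread (m : ZMod p → ℕ) : ℤ := (p : ℤ) * ∑ i, (m i : ℤ) ^ 2 - (∑ i, (m i : ℤ)) ^ 2

theorem two_mul_spread (m : ZMod p → ℕ) :
    2 * spread m = ∑ i, ∑ j, ((m i : ℤ) - m j) ^ 2 := by
  simp only [spread, sub_sq, Finset.sum_add_distrib, Finset.sum_sub_distrib, Finset.sum_const,
    Finset.card_univ, ZMod.card, nsmul_eq_mul, mul_assoc, ← Finset.mul_sum, ← Finset.sum_mul]
  ring

theorem spread_nonneg (m : ZMod p → ℕ) : 0 ≤ spread m := by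
  have h := two_mul_spread m
  have : (0 : ℤ) ≤ ∑ i, ∑ j, ((m i : ℤ) - m j) ^ 2 :=
    Finset.sum_nonneg fun i _ => Finset.sum_nonneg fun j _ => sq_nonneg _
  omega

theorem spread_scale (m : ZMod p → ℕ) (u : (ZMod p)ˣ) :
    spread (fun i : ZMod p => m ((u : ZMod p) * i)) = spread m := by
  have h : ∀ g : ZMod p → ℤ, ∑ i : ZMod p, g ((u : ZMod p) * i) = ∑ i, g i := fun g =>
    Fintype.sum_equiv (Units.mulLeft u) _ _ fun i => rfl
  rw [spread, spread, h fun i => (m i : ℤ) ^ 2, h fun i => (m i : ℤ)]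

open Classical in
/-- The units fixing `m`. -/
noncomputable def invariance (m : ZMod p → ℕ) : Finset (ZMod p)ˣ :=
  Finset.univ.filter fun u => ∀ i : ZMod p, m ((u : ZMod p) * i) = m i

theorem spread_bound (m : ZMod p → ℕ) {u₀ : (ZMod p)ˣ} (hne : m u₀ ≠ m 1) :
    (((invariance m).card * (p - (invariance m).card) : ℕ) : ℤ) ≤ spread m ∧
      2 * (invariance m).card + 1 ≤ p := by
  classical
  set H := invariance m
  have hH : ∀ u ∈ H, ∀ i : ZMod p, m ((u : ZMod p) * i) = m i := fun u hu =>
    (Finset.mem_filter.mp hu).2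
  set W := Finset.univ.filter fun i : ZMod p => m i = m 1 with hW
  set A := H.image fun u : (ZMod p)ˣ => (u : ZMod p) with hA
  set B := H.image fun u : (ZMod p)ˣ => (u : ZMod p) * u₀ with hB
  have hAc : A.card = H.card := Finset.card_image_of_injective _ Units.val_injective
  have hBc : B.card = H.card := Finset.card_image_of_injective _ fun u v h =>
    Units.val_injective (mul_right_cancel₀ u₀.ne_zero h)
  have hAW : A ⊆ W := by
    intro x hx
    obtain ⟨u, hu, rfl⟩ := Finset.mem_image.mp hx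
    exact Finset.mem_filter.mpr ⟨Finset.mem_univ _, by simpa using hH u hu 1⟩
  have hBW : B ⊆ Wᶜ := by
    intro x hx
    obtain ⟨u, hu, rfl⟩ := Finset.mem_image.mp hx
    simp [hW, hH u hu, hne]
  have hw : H.card ≤ W.card := hAc ▸ Finset.card_le_card hAW
  have hw' : H.card ≤ Wᶜ.card := hBc ▸ Finset.card_le_card hBW
  have hWc : W.card + Wᶜ.card = p := by rw [Finset.card_add_card_compl, ZMod.card]
  constructor
  · have h2 := two_mul_spread m
    have hlow : (2 * (W.card * Wᶜ.card) : ℤ) ≤ ∑ i, ∑ j, ((m i : ℤ) - m j) ^ 2 := by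
      have hone : ∀ i ∈ W, ∀ j ∈ Wᶜ, (1 : ℤ) ≤ ((m i : ℤ) - m j) ^ 2 := by
        intro i hi j hj
        have h : (m i : ℤ) ≠ m j := by
          intro e
          rw [Finset.mem_compl] at hj
          exact hj (Finset.mem_filter.mpr ⟨Finset.mem_univ _,
            (Nat.cast_injective e).symm.trans (Finset.mem_filter.mp hi).2⟩)
        exact (one_le_sq_iff_one_le_abs _).mpr (Int.one_le_abs (sub_ne_zero.mpr h))
      calc (2 * (W.card * Wᶜ.card) : ℤ)
          = ∑ _i ∈ W, ∑ _j ∈ Wᶜ, (1 : ℤ) + ∑ _i ∈ Wᶜ, ∑ _j ∈ W, (1 : ℤ) := by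
            simp only [Finset.sum_const, nsmul_eq_mul, mul_one]
            ring
        _ ≤ ∑ i ∈ W, ∑ j ∈ Wᶜ, ((m i : ℤ) - m j) ^ 2 + ∑ i ∈ Wᶜ, ∑ j ∈ W, ((m i : ℤ) - m j) ^ 2 := by
            gcongr with i hi j hj i hi j hj
            · exact hone i hi j hj
            · rw [sub_sq_comm]; exact hone j hj i hi
        _ ≤ ∑ i ∈ W, ∑ j, ((m i : ℤ) - m j) ^ 2 + ∑ i ∈ Wᶜ, ∑ j, ((m i : ℤ) - m j) ^ 2 := by
            exact add_le_add
              (Finset.sum_le_sum fun i _ => Finset.sum_le_univ_sum_of_nonneg fun j => sq_nonneg _)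
              (Finset.sum_le_sum fun i _ => Finset.sum_le_univ_sum_of_nonneg fun j => sq_nonneg _)
        _ = _ := Finset.sum_add_sum_compl W _
    have hmono : ((H.card * (p - H.card) : ℕ) : ℤ) ≤ (W.card : ℤ) * Wᶜ.card := by
      push_cast [Nat.cast_sub (show H.card ≤ p by omega)]
      have e1 : (Wᶜ.card : ℤ) = p - W.card := by omega
      rw [e1]
      nlinarith [mul_nonneg (show (0 : ℤ) ≤ (W.card : ℤ) - H.card by omega)
        (show (0 : ℤ) ≤ (Wᶜ.card : ℤ) - H.card by omega), e1]
    omega
  · have hsub : A ∪ B ⊆ Finset.univ.erase 0 := by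
      intro x hx
      refine Finset.mem_erase.mpr ⟨?_, Finset.mem_univ _⟩
      rcases Finset.mem_union.mp hx with h | h <;>
        obtain ⟨u, -, rfl⟩ := Finset.mem_image.mp h
      · exact u.ne_zero
      · exact mul_ne_zero u.ne_zero u₀.ne_zero
    have h1 := Finset.card_le_card hsub
    rw [Finset.card_union_of_disjoint ((disjoint_compl_right).mono hAW hBW), hAc, hBc,
      Finset.card_erase_of_mem (Finset.mem_univ _), Finset.card_univ, ZMod.card] at h1
    have := hp.out.pos
    omega

namespace Setup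

variable {G Ω : Type*} [Group G] [MulAction G Ω] [FaithfulSMul G Ω]
variable (D : Setup p G Ω) [Finite G] [Fintype G] [Fintype Ω] [DecidableEq Ω]

omit [Fintype G] [Fintype Ω] [DecidableEq Ω] in
theorem eig_eq_card {χ : G → ℂ} {d : ℕ} (ρ : Representation ℂ G (Fin d → ℂ)) (hρ : ρ.character = χ)
    {ι : Type*} [Fintype ι] (b : Module.Basis ι ℂ (Fin d → ℂ)) (e : ι → ZMod p)
    (he : ∀ k, ρ D.gen (b k) = expo (e k) • b k) (i : ZMod p) :
    D.eig χ i = (Finset.univ.filter fun k => e k = i).card := by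
  classical
  have h := D.eig_unique (hρ ▸ ⟨d, ρ, rfl⟩ : IsCharacter G χ)
    (a := fun j => ((Finset.univ.filter fun k => e k = j).card : ℂ)) (fun n => by
      rw [← hρ, show D.pw n = D.gen ^ n.val from rfl,
        Char.character_pow ρ D.gen b (fun k => expo (e k)) he, ← Finset.sum_fiberwise Finset.univ e]
      refine Finset.sum_congr rfl fun j _ => ?_
      rw [Finset.sum_congr rfl (g := fun _ => expo (j * n)), Finset.sum_const, nsmul_eq_mul]
      intro k hk
      rw [(Finset.mem_filter.mp hk).2, ← expo_natCast_mul, ZMod.natCast_zmod_val, mul_comm]) i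
  exact_mod_cast h

omit [Fintype G] [Fintype Ω] [DecidableEq Ω] in
/-- An involution centralising the generator acts as a scalar on a constituent whose eigenvalues
form one orbit of the Galois group fixing it. -/
theorem scalar_of_commute {χ : IrrCharacter G} {d : ℕ} (ρ : Representation ℂ G (Fin d → ℂ))
    (hρ : ρ.character = (χ : G → ℂ)) (hle : ∀ i, D.eig (χ : G → ℂ) i ≤ 1)
    (h0 : D.eig (χ : G → ℂ) 0 = 0)
    (htw : ∀ u : (ZMod p)ˣ, D.eig (χ : G → ℂ) u = 1 → ∀ f : ℂ →+* ℂ,
      (∀ i : ZMod p, f (expo i) = expo ((u : ZMod p) * i)) → twist f χ = χ)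
    {z : G} (hz : Commute z D.gen) (hz2 : z * z = 1) :
    ∃ c : ℂ, ρ z = c • (1 : Module.End ℂ (Fin d → ℂ)) := by
  classical
  obtain ⟨b, μ, hμ, hroot⟩ := Char.exists_eigenbasis ρ D.gen
  have hex : ∀ k, ∃ i : ZMod p, expo i = μ k := fun k =>
    exists_expo_eq (by rw [← D.orderOf_gen]; exact hroot k)
  choose e he using hex
  have hb : ∀ k, ρ D.gen (b k) = expo (e k) • b k := fun k => by rw [he, hμ]
  have hcard := D.eig_eq_card ρ hρ b e hb
  have heinj : Function.Injective e := by
    intro j k hjk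
    have h := hle (e k)
    rw [hcard] at h
    exact Finset.card_le_one.mp h j (by simp [hjk]) k (by simp)
  have hmem : ∀ k, D.eig (χ : G → ℂ) (e k) = 1 := fun k => by
    refine le_antisymm (hle _) ?_
    rw [hcard]
    exact Finset.card_pos.mpr ⟨k, by simp⟩
  -- `z` is diagonal
  have hdiag : ∀ k, ρ z (b k) = b.repr (ρ z (b k)) k • b k := by
    intro k
    have hcomm : ρ D.gen (ρ z (b k)) = expo (e k) • ρ z (b k) := by
      rw [← Module.End.mul_apply, ← map_mul, ← hz.eq, map_mul, Module.End.mul_apply, hb, map_smul]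
    apply b.repr.injective
    ext j
    rw [map_smul, Module.Basis.repr_self, Finsupp.smul_apply, Finsupp.single_apply]
    by_cases hjk : k = j
    · subst hjk
      simp
    · rw [if_neg hjk, smul_zero]
      have hA : ∀ (w : Fin d → ℂ), b.repr (ρ D.gen w) j = expo (e j) * b.repr w j := by
        have hlin : (b.coord j).comp (ρ D.gen) = expo (e j) • b.coord j := b.ext fun i => by
          by_cases hij : i = j
          · subst hij
            simp [hb]
          · simp [hb, Ne.symm hij]
        exact fun w => LinearMap.congr_fun hlin w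
      have h := hA (ρ z (b k))
      rw [hcomm, map_smul, Finsupp.smul_apply, smul_eq_mul] at h
      by_contra hne
      exact hjk (heinj (expo_injective (mul_right_cancel₀ hne h)))
  set lam := fun k => b.repr (ρ z (b k)) k
  have hlam : ∀ k, lam k = 1 ∨ lam k = -1 := by
    intro k
    have h : (ρ z * ρ z) (b k) = b k := by rw [← map_mul, hz2, map_one, Module.End.one_apply]
    rw [Module.End.mul_apply, hdiag, map_smul, hdiag, smul_smul] at h
    have h' := congrArg (fun w => b.repr w k) h
    simp only [map_smul, Module.Basis.repr_self, Finsupp.smul_apply, Finsupp.single_eq_same,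
      smul_eq_mul, mul_one] at h'
    exact mul_self_eq_one_iff.mp h'
  -- the character on the coset
  let a : ZMod p → ℂ := fun i => ∑ k ∈ Finset.univ.filter fun k => e k = i, lam k
  have hval : ∀ n, (χ : G → ℂ) (D.pw n * z) = ∑ i, a i * expo (i * n) := by
    intro n
    rw [← hρ, Representation.character, LinearMap.trace_eq_matrix_trace ℂ b, Matrix.trace,
      ← Finset.sum_fiberwise Finset.univ e]
    refine Finset.sum_congr rfl fun i _ => ?_
    rw [Finset.sum_mul]
    refine Finset.sum_congr rfl fun k hk => ?_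
    have hpow : ∀ m : ℕ, (ρ (D.gen ^ m)) (b k) = expo (e k) ^ m • b k := by
      intro m
      induction m with
      | zero => simp
      | succ m ih => rw [pow_succ, map_mul, Module.End.mul_apply, hb, map_smul, ih, smul_smul, pow_succ']
    rw [Matrix.diag, LinearMap.toMatrix_apply, map_mul, Module.End.mul_apply, hdiag, map_smul,
      show D.pw n = D.gen ^ n.val from rfl, hpow, smul_smul, map_smul, Module.Basis.repr_self,
      Finsupp.smul_apply, Finsupp.single_eq_same, smul_eq_mul, mul_one, ← expo_natCast_mul,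
      ZMod.natCast_zmod_val, (Finset.mem_filter.mp hk).2, mul_comm n]
  have hsingle : ∀ k, a (e k) = lam k := fun k => by
    refine Finset.sum_eq_single k (fun j hj hne => absurd (heinj (Finset.mem_filter.mp hj).2) hne) ?_
    simp
  have key : ∀ k, lam k = a 1 := by
    intro k
    have hk0 : e k ≠ 0 := fun h => by
      have := hmem k
      rw [h, h0] at this
      exact zero_ne_one this
    obtain ⟨f, hf⟩ := exists_ringHom_expo (p := p) (Units.mk0 (e k) hk0)
    have htk := htw (Units.mk0 (e k) hk0) (hmem k) f hf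
    have hfa : ∀ i, f (a i) = a i := fun i => by
      rw [map_sum]
      exact Finset.sum_congr rfl fun j _ => by rcases hlam j with h | h <;> simp [h]
    have huniq := fourier_unique (a := fun i : ZMod p => a (((Units.mk0 (e k) hk0)⁻¹ : (ZMod p)ˣ).val * i))
      (b := a) (fun n => by
        rw [← hval]
        conv_rhs => rw [← htk, twist_apply, hval, map_sum]
        refine (Fintype.sum_equiv (Units.mulLeft (Units.mk0 (e k) hk0)) _ _ fun j => ?_).symm
        simp only [Units.mulLeft_apply, map_mul, hfa, hf, Units.inv_mul_cancel_left, mul_assoc])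
    have := congrFun huniq (e k)
    rw [← hsingle, ← this]
    congr 1
    simp [hk0]
  refine ⟨a 1, b.ext fun k => ?_⟩
  rw [hdiag, LinearMap.smul_apply, Module.End.one_apply]
  exact congrArg (· • b k) (key k)

/-- An element commuting with the generator does not interchange the sides. -/
theorem side_of_commute {z : G} (hz : Commute z D.gen) : (D.coord (z • D.base)).1 = false := by
  classical
  by_contra hside
  rw [Bool.not_eq_false] at hside
  obtain ⟨C⟩ := D.exists_consts
  have hc : ∀ {g : G}, Commute g D.gen → g * D.gen * g⁻¹ = D.pw 1 := fun hg => by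
    rw [hg.eq, mul_inv_cancel_right, pw_one]
  have hzz : (D.coord ((z * z) • D.base)).1 = false := by
    have h2 := D.coord_normalizing (hc hz) true (D.coord (z • D.base)).2
    rw [← hside, Prod.mk.eta, Equiv.symm_apply_apply, hside] at h2
    rw [mul_smul, h2, D.side_normalizing one_ne_zero (hc hz), hside]
    rfl
  set c := (D.coord ((z * z) • D.base)).2
  have hzc : z * z = D.pw c := D.eq_pw_of_commute (hz.mul_left hz) hzz
  set t := -((2 : ZMod p)⁻¹ * c) with ht
  have h2ne : (2 : ZMod p) ≠ 0 := by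
    intro h
    have h' : ((2 : ℕ) : ZMod p) = 0 := by exact_mod_cast h
    rw [ZMod.natCast_eq_zero_iff] at h'
    rcases (Nat.dvd_prime Nat.prime_two).mp h' with h'' | h''
    · exact hp.out.one_lt.ne' h''
    · exact Nat.not_even_iff_odd.mpr D.odd (h'' ▸ even_two)
  set w := z * D.pw t with hwdef
  have hzt : Commute z (D.pw t) := by
    rw [show D.pw t = D.gen ^ t.val from rfl]
    exact hz.pow_right _
  have hw : Commute w D.gen := Commute.mul_left hz (by rw [← pw_one]; exact D.pw_comm _ _)
  have hw2 : w * w = 1 := by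
    calc w * w = z * (D.pw t * z) * D.pw t := by rw [hwdef]; group
      _ = z * z * (D.pw t * D.pw t) := by rw [← hzt.eq]; group
      _ = 1 := by
        rw [hzc, ← pw_add, ← pw_add, ← two_mul, ht, mul_neg, mul_inv_cancel_left₀ h2ne,
          add_neg_cancel, pw_zero]
  have hwside : (D.coord (w • D.base)).1 = true := by
    have : D.pw t • D.base = D.coord.symm (false, t) := D.coord.injective (by
      simp [coord_pw, base])
    rw [mul_smul, this, D.coord_normalizing (hc hz)]
    exact hside
  obtain ⟨d, ρ, hirr, hρ⟩ := C.Y.2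
  obtain ⟨l, hl⟩ := D.scalar_of_commute ρ hρ C.eig_Y_le (C.eig_R_zero _ C.Y_mem)
    (fun u hu f hf => C.twist_Y f u hf ((C.mem_S u).mpr hu)) hw hw2
  have hinj := D.injective_of_constituent C.Y (fun e => C.triv_notMem (e ▸ C.Y_mem))
    (by rw [C.mult_R _ C.Y_mem]; exact one_ne_zero) ρ hρ
  have hcentral : ∀ g : G, g * w = w * g := fun g => hinj (by
    rw [map_mul ρ g w, map_mul ρ w g, hl, mul_smul_comm, smul_mul_assoc, mul_one, one_mul])
  have hN : (Subgroup.zpowers w).Normal := ⟨fun n hn g => by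
    obtain ⟨k, rfl⟩ := hn
    rw [show g * w ^ k * g⁻¹ = w ^ k by
      rw [(Commute.zpow_right (hcentral g) k).eq, mul_inv_cancel_right]]
    exact ⟨k, rfl⟩⟩
  have := D.prim
  have hw1 : w ≠ 1 := fun e => by
    rw [e, one_smul] at hwside
    simp [base] at hwside
  have htr := isPretransitive_of_normal_ne_bot (G := G) (X := Ω) (N := Subgroup.zpowers w)
    (by rwa [Ne, Subgroup.zpowers_eq_bot])
  have hle : Nat.card Ω ≤ Nat.card (Subgroup.zpowers w) :=
    Nat.card_le_card_of_surjective (fun g : Subgroup.zpowers w => g • D.base)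
      (fun y => exists_smul_eq _ _ _)
  rw [D.card_eq, Nat.card_zpowers] at hle
  have h2 : orderOf w ≤ 2 :=
    Nat.le_of_dvd two_pos (orderOf_dvd_of_pow_eq_one (by rw [pow_two, hw2]))
  have := hp.out.two_le
  omega

/-- The centraliser of the generator. -/
theorem eq_pw {z : G} (hz : Commute z D.gen) : z = D.pw (D.coord (z • D.base)).2 :=
  D.eq_pw_of_commute hz (D.side_of_commute hz)

theorem card_centralizer_pw {n : ZMod p} (hn : n ≠ 0) :
    Nat.card (Subgroup.centralizer ({D.pw n} : Set G)) = p := by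
  refine (Nat.card_eq_of_bijective
    (fun j : ZMod p => (⟨D.pw j, Subgroup.mem_centralizer_singleton_iff.mpr (D.pw_comm _ _).eq⟩ :
      Subgroup.centralizer ({D.pw n} : Set G))) ⟨fun i j h => D.pw_injective (congrArg Subtype.val h),
    fun z => ⟨_, Subtype.ext (D.eq_pw (D.commute_gen_of_commute_pw hn
      (Subgroup.mem_centralizer_singleton_iff.mp z.2))).symm⟩⟩).symm.trans (Nat.card_zmod p)

omit [Fintype G] [Fintype Ω] [DecidableEq Ω] in
theorem sum_normSq {χ : G → ℂ} (hχ : IsCharacter G χ) :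
    ∑ n : ZMod p, χ (D.pw n) * conj (χ (D.pw n)) = (p : ℂ) * ∑ i, (D.eig χ i : ℂ) ^ 2 := by
  have hconj : ∀ n, conj (χ (D.pw n)) = ∑ i, (D.eig χ i : ℂ) * expo (-i * n) := fun n => by
    rw [← Char.IsCharacter.apply_inv hχ, pw_inv, D.eig_spec hχ]
    simp only [mul_neg, neg_mul]
  calc ∑ n, χ (D.pw n) * conj (χ (D.pw n))
      = ∑ i, (D.eig χ i : ℂ) * ∑ n, χ (D.pw n) * expo (-i * n) := by
        simp only [hconj, Finset.mul_sum]
        rw [Finset.sum_comm]
        exact Finset.sum_congr rfl fun i _ => Finset.sum_congr rfl fun n _ => by ring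
    _ = (p : ℂ) * ∑ i, (D.eig χ i : ℂ) ^ 2 := by
        rw [Finset.mul_sum]
        refine Finset.sum_congr rfl fun i _ => ?_
        rw [Finset.sum_congr rfl fun n _ => by rw [D.eig_spec hχ n], fourier_inversion]
        ring

theorem sum_spread [Fintype (IrrCharacter G)] :
    ∑ χ : IrrCharacter G, spread (D.eig (χ : G → ℂ)) = (p : ℤ) * (p - 1) := by
  classical
  have h1 : ∀ χ : IrrCharacter G, ((spread (D.eig (χ : G → ℂ)) : ℤ) : ℂ) =
      ∑ n ∈ Finset.univ.erase (0 : ZMod p), (χ : G → ℂ) (D.pw n) * conj ((χ : G → ℂ) (D.pw n)) := by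
    intro χ
    have hc := Char.IsIrrCharacter.isCharacter χ.2
    rw [Finset.sum_erase_eq_sub (Finset.mem_univ _), D.sum_normSq hc, D.pw_zero, D.sum_eig hc,
      Complex.conj_natCast, spread]
    push_cast
    ring
  have h2 : ((∑ χ : IrrCharacter G, spread (D.eig (χ : G → ℂ)) : ℤ) : ℂ) =
      (p : ℂ) * ((p : ℂ) - 1) := by
    rw [Int.cast_sum, Finset.sum_congr rfl fun χ _ => h1 χ, Finset.sum_comm,
      Finset.sum_congr rfl (g := fun _ => (p : ℂ)), Finset.sum_const,
      Finset.card_erase_of_mem (Finset.mem_univ _), Finset.card_univ, ZMod.card, nsmul_eq_mul,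
      Nat.cast_sub hp.out.one_le, Nat.cast_one]
    · ring
    · intro n hn
      rw [Char.column_orth, if_pos (IsConj.refl _), D.card_centralizer_pw (Finset.ne_of_mem_erase hn)]
  exact_mod_cast h2

theorem exists_normalizing (C : D.Consts) (hr : 2 ≤ C.R.card) {s : (ZMod p)ˣ} (hs : s ∈ C.S) :
    ∃ g : G, g * D.gen * g⁻¹ = D.pw s := by
  classical
  have := Fintype.ofFinite (IrrCharacter G)
  suffices hconj : IsConj D.gen (D.pw s) by
    obtain ⟨g, hg⟩ := isConj_iff.mp hconj
    exact ⟨g, hg⟩
  rw [Char.isConj_iff_irr]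
  intro χ
  have hc := Char.IsIrrCharacter.isCharacter χ.2
  by_contra hne
  set m := D.eig (χ : G → ℂ)
  have hgen : ∀ u : (ZMod p)ˣ, (χ : G → ℂ) (D.pw u) =
      ∑ i, (m (((u⁻¹ : (ZMod p)ˣ) : ZMod p) * i) : ℂ) * expo i := by
    intro u
    rw [D.eig_spec hc]
    refine Fintype.sum_equiv (Units.mulLeft u) _ _ fun i => ?_
    rw [Units.mulLeft_apply, Units.inv_mul_cancel_left, mul_comm i]
  have hsne : ∃ i : ZMod p, m ((s : ZMod p) * i) ≠ m i := by
    by_contra hcon
    push Not at hcon
    apply hne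
    rw [← D.pw_one, ← Units.val_one, hgen, hgen]
    refine Finset.sum_congr rfl fun i _ => ?_
    rw [inv_one, Units.val_one, one_mul]
    congr 2
    rw [← hcon (((s⁻¹ : (ZMod p)ˣ) : ZMod p) * i), Units.mul_inv_cancel_left]
  -- the special constituents do not separate
  have hO : ∀ χ' : IrrCharacter G, χ' = triv ∨ χ' = C.psi ∨ χ' ∈ C.R →
      ∀ (f : ℂ →+* ℂ) (u : (ZMod p)ˣ), (∀ i : ZMod p, f (expo i) = expo ((u : ZMod p) * i)) →
      u ∈ C.S → twist f χ' = χ' := by
    intro χ' h f u hf hu
    rcases h with rfl | rfl | h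
    · exact Subtype.ext (funext fun g => map_one f)
    · exact C.twist_psi f
    · obtain ⟨i, hi, hpos⟩ := D.exists_eig_pos χ' (fun e => C.triv_notMem (e ▸ h))
        (by rw [C.mult_R _ h]; exact one_ne_zero)
      obtain ⟨f', hf'⟩ := exists_ringHom_expo (p := p) (Units.mk0 i hi)
      have hmem : mult G Ω (twist f' C.Y : G → ℂ) = 1 := by rw [mult_twist, C.mult_R _ C.Y_mem]
      have he1 : D.eig (twist f' C.Y : G → ℂ) i = 1 := by
        have := D.eig_twist hf' C.Y 1
        rwa [mul_one, Units.val_mk0, (by simpa using (C.mem_S 1).mp C.S.one_mem :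
          D.eig (C.Y : G → ℂ) 1 = 1)] at this
      have he : twist f' C.Y = χ' := by
        by_contra hne'
        have hsum := D.sum_mult_eig i
        have hne1 : twist f' C.Y ≠ C.psi := fun e => by
          have := D.eig_twist hf' C.Y 0
          rw [e, mul_zero, C.eig_psi, C.eig_R_zero _ C.Y_mem] at this
          exact one_ne_zero this
        have h1 := Finset.sum_le_sum_of_subset
          (f := fun φ : IrrCharacter G => mult G Ω (φ : G → ℂ) * D.eig (φ : G → ℂ) i)
          (Finset.subset_univ {twist f' C.Y, χ', C.psi})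
        rw [Finset.sum_insert (by simp [hne', hne1]),
          Finset.sum_pair (fun e : χ' = C.psi => C.psi_notMem (e ▸ h)), hsum, hmem, he1,
          C.mult_R _ h, C.mult_psi, C.eig_psi, one_mul, one_mul] at h1
        omega
      subst he
      have hY := C.twist_Y f u hf hu
      have hYu : ∀ j : ZMod p, D.eig (C.Y : G → ℂ) ((u : ZMod p) * j) = D.eig (C.Y : G → ℂ) j :=
        fun j => by simpa [hY] using D.eig_twist hf C.Y j
      -- `twist f (twist f' Y)` again has eigenvalue `u * i`
      by_contra hne'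
      have hsum := D.sum_mult_eig ((u : ZMod p) * i)
      have he2 : D.eig (twist f (twist f' C.Y) : G → ℂ) ((u : ZMod p) * i) = 1 := by
        rw [D.eig_twist hf, he1]
      have he3 : D.eig (twist f' C.Y : G → ℂ) ((u : ZMod p) * i) = 1 := by
        have := D.eig_twist hf' C.Y (u : ZMod p)
        rw [Units.val_mk0, (C.mem_S u).mp hu] at this
        rwa [mul_comm]
      have hne2 : twist f (twist f' C.Y) ≠ C.psi := fun e => by
        have := D.eig_twist hf (twist f' C.Y) 0
        rw [e, mul_zero, C.eig_psi, C.eig_R_zero _ h] at this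
        exact one_ne_zero this
      have h1 := Finset.sum_le_sum_of_subset
        (f := fun φ : IrrCharacter G => mult G Ω (φ : G → ℂ) * D.eig (φ : G → ℂ) ((u : ZMod p) * i))
        (Finset.subset_univ {twist f (twist f' C.Y), twist f' C.Y, C.psi})
      rw [Finset.sum_insert (by simp [hne', hne2]),
        Finset.sum_pair (fun e : twist f' C.Y = C.psi => C.psi_notMem (e ▸ h)), hsum, mult_twist, hmem, he2, he3,
        C.mult_psi, C.eig_psi] at h1
      omega
  set O := Finset.univ \ insert triv (insert C.psi C.R) with hOdef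
  have hOmem : ∀ χ', χ' ∈ O ↔ χ' ≠ triv ∧ χ' ≠ C.psi ∧ χ' ∉ C.R := fun χ' => by simp [O]
  have hχO : χ ∈ O := by
    by_contra hnot
    rw [hOmem, not_and_or, not_and_or] at hnot
    simp only [not_not] at hnot
    obtain ⟨i, hi⟩ := hsne
    obtain ⟨f, hf⟩ := exists_ringHom_expo (p := p) s
    have := D.eig_twist hf χ i
    rw [hO χ hnot f s hf hs] at this
    exact hi this
  have htwO : ∀ (f : ℂ →+* ℂ) χ', χ' ∈ O → twist f χ' ∈ O := by
    intro f χ' h
    rw [hOmem] at h ⊢
    refine ⟨fun e => h.1 (Subtype.ext (funext fun g => f.injective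
      ((congrFun (congrArg Subtype.val e) g).trans (map_one f).symm))), fun e => h.2.1 ?_,
      fun e => ?_⟩
    · rw [← C.twist_psi f] at e
      exact Subtype.ext (funext fun g => f.injective (congrFun (congrArg Subtype.val e) g))
    · have hm : mult G Ω (χ' : G → ℂ) ≠ 0 := by
        rw [← mult_twist f, C.mult_R _ e]
        exact one_ne_zero
      rcases C.cases χ' hm with h' | h' | h'
      exacts [h.1 h', h.2.1 h', h.2.2 h']
  -- the total over `O`
  have hOsum : ∑ χ' ∈ O, spread (D.eig (χ' : G → ℂ)) = ((p : ℤ) - 1) * ((Nat.card C.S : ℤ) - 1) := by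
    have htot := D.sum_spread
    rw [← Finset.sum_sdiff (Finset.subset_univ (insert triv (insert C.psi C.R))),
      Finset.sum_insert (by simp [C.psi_ne_triv.symm, C.triv_notMem]),
      Finset.sum_insert C.psi_notMem, ← hOdef] at htot
    have ht : spread (D.eig (triv : IrrCharacter G).1) = (p : ℤ) - 1 := by
      simp [spread, D.eig_triv, apply_ite (Nat.cast : ℕ → ℤ)]
    have hψ : spread (D.eig (C.psi : G → ℂ)) = 0 := by
      simp [spread, C.eig_psi]
      ring
    have hR : ∀ χ' ∈ C.R, spread (D.eig (χ' : G → ℂ)) =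
        (p : ℤ) * Nat.card C.S - (Nat.card C.S : ℤ) ^ 2 := by
      intro χ' h
      have h1 := C.sum_R χ' h
      have h2 : ∀ i, (D.eig (χ' : G → ℂ) i : ℤ) ^ 2 = (D.eig (χ' : G → ℂ) i : ℤ) := fun i => by
        have := C.eig_R_le χ' h i
        interval_cases D.eig (χ' : G → ℂ) i <;> simp
      simp only [spread, h2, ← Nat.cast_sum, h1]
    rw [ht, hψ, Finset.sum_congr rfl hR, Finset.sum_const, nsmul_eq_mul] at htot
    have hrm : (C.R.card : ℤ) * Nat.card C.S = (p : ℤ) - 1 := by
      have h : ((C.R.card * Nat.card C.S : ℕ) : ℤ) = ((p - 1 : ℕ) : ℤ) := by rw [C.card_mul]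
      push_cast [Nat.cast_sub hp.out.one_le] at h
      exact h
    linear_combination htot + ((p : ℤ) - (Nat.card C.S : ℤ)) * hrm * (-1)
  -- a character separating `gen` and `pw s` has too large an orbit
  obtain ⟨u₀, hu₀⟩ : ∃ u₀ : (ZMod p)ˣ, m u₀ ≠ m 1 := by
    by_contra hcon
    push Not at hcon
    obtain ⟨i, hi⟩ := hsne
    by_cases h0 : i = 0
    · exact hi (by rw [h0, mul_zero])
    · apply hi
      rw [← Units.val_mk0 h0, ← Units.val_mul, hcon, hcon]
  obtain ⟨hspread, h2h⟩ := spread_bound m hu₀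
  set h := (invariance m).card
  choose F hF using fun u : (ZMod p)ˣ => exists_ringHom_expo (p := p) u
  let Φ : (ZMod p)ˣ → IrrCharacter G := fun u => twist (F u) χ
  have hfib : ∀ χ' ∈ Finset.univ.image Φ, (Finset.univ.filter fun u => Φ u = χ').card ≤ h := by
    intro χ' hχ'
    obtain ⟨v, -, rfl⟩ := Finset.mem_image.mp hχ'
    refine Finset.card_le_card_of_injOn (fun u => v⁻¹ * u) (fun u hu => ?_)
      (fun x _ y _ e => mul_left_cancel e)
    simp only [Finset.coe_filter, Finset.mem_univ, true_and, Set.mem_ofPred_eq] at hu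
    simp only [invariance, Finset.coe_filter, Finset.mem_univ, true_and, Set.mem_ofPred_eq]
    intro i
    have h1 := D.eig_twist (hF v) χ (((v⁻¹ : (ZMod p)ˣ) : ZMod p) * ((u : ZMod p) * i))
    have h2 := D.eig_twist (hF u) χ i
    rw [Units.mul_inv_cancel_left] at h1
    change D.eig (χ : G → ℂ) _ = D.eig (χ : G → ℂ) _
    rw [Units.val_mul, mul_assoc, ← h1, show twist (F v) χ = twist (F u) χ from hu.symm, h2]
  have hcard := Finset.card_le_mul_card_image (Finset.univ : Finset (ZMod p)ˣ) h hfib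
  rw [Finset.card_univ, ZMod.card_units] at hcard
  have hbig : ((Finset.univ.image Φ).card : ℤ) * spread m ≤
      ((p : ℤ) - 1) * ((Nat.card C.S : ℤ) - 1) := by
    rw [← hOsum, ← nsmul_eq_mul]
    refine (le_of_eq ?_).trans (Finset.sum_le_sum_of_subset_of_nonneg (s := Finset.univ.image Φ)
      (fun χ' hχ' => ?_) fun χ' _ _ => spread_nonneg _)
    · rw [← Finset.sum_const]
      refine Finset.sum_congr rfl fun χ' hχ' => ?_
      obtain ⟨v, -, rfl⟩ := Finset.mem_image.mp hχ'
      exact ((spread_scale (D.eig (Φ v : G → ℂ)) v).symm.trans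
        (congrArg spread (funext fun i => D.eig_twist (hF v) χ i))).symm
    · obtain ⟨v, -, rfl⟩ := Finset.mem_image.mp hχ'
      exact htwO _ _ hχO
  have hm := C.card_mul
  have hp1 := hp.out.two_le
  have hhp : h ≤ p := by omega
  have h1 : (p : ℤ) - 1 ≤ (h : ℤ) * (Finset.univ.image Φ).card := by
    have : ((p - 1 : ℕ) : ℤ) ≤ ((h * (Finset.univ.image Φ).card : ℕ) : ℤ) := by exact_mod_cast hcard
    push_cast [Nat.cast_sub (show 1 ≤ p by omega)] at this
    exact this
  push_cast [Nat.cast_sub hhp] at hspread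
  have h2S : 2 * (Nat.card C.S : ℤ) ≤ (p : ℤ) - 1 := by
    have : 2 * Nat.card C.S ≤ p - 1 := hm ▸ Nat.mul_le_mul_right _ hr
    omega
  have hh0 : (0 : ℤ) ≤ h := Int.natCast_nonneg h
  have hpos : 0 < h := by
    by_contra h0
    rw [show h = 0 by omega] at hcard
    omega
  have h5 : ((p : ℤ) - 1) * ((h : ℤ) * ((p : ℤ) - h)) ≤
      (h : ℤ) * (((p : ℤ) - 1) * ((Nat.card C.S : ℤ) - 1)) := by
    calc ((p : ℤ) - 1) * ((h : ℤ) * ((p : ℤ) - h))
        ≤ ((h : ℤ) * (Finset.univ.image Φ).card) * spread m :=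
          mul_le_mul h1 hspread (mul_nonneg hh0 (by omega)) (by positivity)
      _ = (h : ℤ) * ((Finset.univ.image Φ).card * spread m) := by ring
      _ ≤ _ := mul_le_mul_of_nonneg_left hbig hh0
  have h6 : ((p : ℤ) - 1) * (h : ℤ) * ((p : ℤ) - h - ((Nat.card C.S : ℤ) - 1)) ≤ 0 := by
    linarith
  have h7 : (0 : ℤ) < ((p : ℤ) - 1) * (h : ℤ) * ((p : ℤ) - h - ((Nat.card C.S : ℤ) - 1)) := by
    have : (0 : ℤ) < (p : ℤ) - h - ((Nat.card C.S : ℤ) - 1) := by omega
    have : (0 : ℤ) < (p : ℤ) - 1 := by omega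
    have : (0 : ℤ) < (h : ℤ) := by exact_mod_cast hpos
    positivity
  omega

omit [DecidableEq Ω] in
theorem mem_S_of_normalizing (C : D.Consts) {g : G} {u : (ZMod p)ˣ}
    (h : g * D.gen * g⁻¹ = D.pw u) : u ∈ C.S := by
  classical
  have hc := Char.IsIrrCharacter.isCharacter C.Y.2
  have huniq : ∀ i, (D.eig (C.Y : G → ℂ) i : ℂ) =
      (D.eig (C.Y : G → ℂ) (((u⁻¹ : (ZMod p)ˣ) : ZMod p) * i) : ℂ) := by
    intro i
    refine D.eig_unique hc
      (a := fun j => (D.eig (C.Y : G → ℂ) (((u⁻¹ : (ZMod p)ˣ) : ZMod p) * j) : ℂ)) (fun n => ?_) i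
    have h1 := Char.IsIrrCharacter.isClassFunction C.Y.2 (D.pw n) g
    rw [D.conj_pw h, D.eig_spec hc] at h1
    rw [← h1]
    refine Fintype.sum_equiv (Units.mulLeft u) _ _ fun i => ?_
    rw [Units.mulLeft_apply, Units.inv_mul_cancel_left]
    ring_nf
  rw [C.mem_S]
  have h2 := huniq u
  rw [Units.inv_mul, Nat.cast_inj] at h2
  rw [h2]
  simpa using (C.mem_S 1).mp C.S.one_mem

end Setup

end Cfsg.Agent.Perm.TwiceP
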