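/-
The suborbits in degree `2 * p`: every non-trivial subdegree is `e * J + δ` with integers bound by
`2 * r * δ * (δ - 1) + e * J ^ 2 ≤ 2 * r * e * J`, and `∑ δ = 1`, `∑ J = 2 * r`, `∑ δ ^ 2 / k = 1`.

* `Setup.Consts.card_orbitals`
* `Setup.Consts.exists_suborbit_data`
-/
import Cfsg.Agent.Lib.Perm.TwiceP.Centralizer
import Cfsg.Agent.Lib.CharApp.Galois

set_option autoImplicit false

namespace Cfsg.Agent.Perm.TwiceP

open Cfsg MulAction Perm.Orbital Matrix
open scoped ComplexConjugate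

/-- Cauchy–Schwarz against a symmetric idempotent. -/
theorem trace_sq_le {n : Type*} [Fintype n] (A P : Matrix n n ℚ) (hP : P * P = P)
    (hPs : Pᵀ = P) (hPt : 0 < P.trace) :
    (A * P).trace ^ 2 / P.trace ≤ (A * P * Aᵀ).trace := by
  set t : ℚ := (A * P).trace / P.trace with ht
  have hnn : ∀ M : Matrix n n ℚ, 0 ≤ (M * Mᵀ).trace := fun M =>
    Finset.sum_nonneg fun i _ => Finset.sum_nonneg fun j _ => mul_self_nonneg (M i j)
  have h := hnn (A * P - t • P)
  have h1 : (P * Aᵀ).trace = (A * P).trace := by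
    rw [← Matrix.trace_transpose, Matrix.transpose_mul, Matrix.transpose_transpose, hPs]
  have e : ((A * P - t • P) * (A * P - t • P)ᵀ).trace =
      (A * P * Aᵀ).trace - 2 * t * (A * P).trace + t ^ 2 * P.trace := by
    simp only [Matrix.transpose_sub, Matrix.transpose_smul, Matrix.transpose_mul, hPs,
      Matrix.sub_mul, Matrix.mul_sub, Matrix.trace_sub, Matrix.smul_mul, Matrix.mul_smul,
      Matrix.trace_smul, smul_eq_mul]
    rw [show A * P * (P * Aᵀ) = A * P * Aᵀ by rw [← Matrix.mul_assoc, Matrix.mul_assoc A P P, hP],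
      show A * P * P = A * P by rw [Matrix.mul_assoc, hP],
      show P * (P * Aᵀ) = P * Aᵀ by rw [← Matrix.mul_assoc, hP], hP, h1]
    ring
  rw [e] at h
  have e2 : (A * P).trace ^ 2 / P.trace = 2 * t * (A * P).trace - t ^ 2 * P.trace := by
    rw [ht]
    field_simp
    ring
  linarith

namespace Setup

variable {p : ℕ} [hp : Fact p.Prime] {G Ω : Type*} [Group G] [MulAction G Ω] [FaithfulSMul G Ω]
variable {D : Setup p G Ω} [Finite G] [Fintype G] [Fintype Ω] [DecidableEq Ω]

omit [FaithfulSMul G Ω] [Finite G] [Fintype G] [Fintype Ω] [DecidableEq Ω] in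
theorem orbit_out (a b : Ω) :
    orbit (stabilizer G a) (Quotient.out (⟦b⟧ : orbitRel.Quotient (stabilizer G a) Ω)) =
      orbit (stabilizer G a) b :=
  orbit_eq_iff.mpr (orbitRel_apply.mp (Quotient.mk_out b))

omit [FaithfulSMul G Ω] [Finite G] hp in
theorem mat_idem_triv [IsPretransitive G Ω] [Nonempty Ω] (x y : Ω) :
    mat (idem (Ω := Ω) (fun _ : G => (1 : ℂ))) x y = (Fintype.card Ω : ℂ)⁻¹ := by
  rw [idem, mat_groupSumOp]
  simp only [coef, map_one, mul_one]
  rw [← Finset.sum_filter, Finset.sum_const, nsmul_eq_mul, ← card_smul_fibre y x (G := G),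
    Nat.cast_mul]
  have : ((Finset.univ.filter fun g : G => g • y = x).card : ℂ) ≠ 0 := by
    obtain ⟨g₀, hg₀⟩ := exists_smul_eq G y x
    exact Nat.cast_ne_zero.2 (Finset.card_ne_zero.mpr ⟨g₀, by simp [hg₀]⟩)
  field_simp

namespace Consts

variable (C : D.Consts)

omit [Fintype Ω] [DecidableEq Ω] in
theorem conj_psi (g : G) : conj ((C.psi : G → ℂ) g) = (C.psi : G → ℂ) g :=
  congrFun (congrArg Subtype.val (C.twist_psi (starRingEnd ℂ))) g

omit [Fintype Ω] [DecidableEq Ω] in
/-- The rational constituent has rational integral values. -/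
theorem exists_int_psi (g : G) : ∃ n : ℤ, (C.psi : G → ℂ) g = n := by
  refine CharApp.exists_rat_of_pow_invariant
    (GaloisAvg.cycloValued_character (Char.IsIrrCharacter.isCharacter C.psi.2)) fun m hm => ?_
  obtain ⟨f, hf⟩ := GaloisPow.exists_galois G hm
  rw [← hf _ (Char.IsIrrCharacter.isCharacter C.psi.2)]
  exact congrFun (congrArg Subtype.val (C.twist_psi f.toRingHom)) g

omit [Fintype Ω] [DecidableEq Ω] in
theorem psi_one : (C.psi : G → ℂ) 1 = p := by
  rw [D.sum_eig (Char.IsIrrCharacter.isCharacter C.psi.2)]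
  simp [C.eig_psi]

omit [Fintype Ω] [DecidableEq Ω] in
theorem degree_R {χ : IrrCharacter G} (hχ : χ ∈ C.R) : (χ : G → ℂ) 1 = (Nat.card C.S : ℂ) := by
  rw [D.sum_eig (Char.IsIrrCharacter.isCharacter χ.2), C.sum_R χ hχ]

theorem card_orbitals :
    Nat.card (orbitRel.Quotient G (Ω × Ω)) = C.R.card + 2 := by
  classical
  have := Fintype.ofFinite (IrrCharacter G)
  have := D.prim
  have : Nonempty Ω := ⟨D.base⟩
  rw [card_orbitals_eq_sum, ← Finset.sum_subset (Finset.subset_univ (insert triv (insert C.psi C.R)))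
    fun χ _ h => ?_, Finset.sum_insert (by simp [C.psi_ne_triv.symm, C.triv_notMem]),
    Finset.sum_insert C.psi_notMem, C.mult_psi,
    show mult G Ω (triv : IrrCharacter G).1 = 1 from mult_one,
    Finset.sum_congr rfl fun χ hχ => by rw [C.mult_R χ hχ]]
  · simp
    ring
  · by_contra hne
    rcases C.cases χ (fun e => hne (by rw [e]; rfl)) with e | e | e <;> exact h (by simp [e])

/-- The projection onto the constituent of degree `p`, over `ℚ`. -/
noncomputable def projQ : Matrix Ω Ω ℚ := fun x y =>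
  ∑ g : G, if g • y = x then (p : ℚ) / Nat.card G * (C.exists_int_psi g).choose else 0

theorem projQ_cast (x y : Ω) : ((C.projQ x y : ℚ) : ℂ) = mat (idem (Ω := Ω) (C.psi : G → ℂ)) x y := by
  rw [idem, mat_groupSumOp, projQ, Rat.cast_sum]
  refine Finset.sum_congr rfl fun g _ => ?_
  split_ifs
  · rw [coef, C.conj_psi, C.psi_one]
    push_cast
    conv_rhs => rw [(C.exists_int_psi g).choose_spec]
  · exact Rat.cast_zero

theorem projQ_map : C.projQ.map (Rat.cast : ℚ → ℂ) = mat (idem (Ω := Ω) (C.psi : G → ℂ)) :=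
  Matrix.ext fun x y => C.projQ_cast x y

theorem projQ_smul (g : G) (x y : Ω) : C.projQ (g • x) (g • y) = C.projQ x y := by
  apply Rat.cast_injective (α := ℂ)
  rw [C.projQ_cast, C.projQ_cast]
  exact mem_cAlg_iff.mp (idem_mem C.psi.2) g x y

theorem projQ_mul_self : C.projQ * C.projQ = C.projQ := by
  apply Matrix.map_injective (Rat.cast_injective (α := ℂ))
  change (C.projQ * C.projQ).map (Rat.castHom ℂ) = _
  rw [Matrix.map_mul]
  change C.projQ.map (Rat.cast : ℚ → ℂ) * C.projQ.map (Rat.cast : ℚ → ℂ) = _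
  rw [C.projQ_map, ← mat_mul, idem_mul C.psi.2 C.psi.2, if_pos rfl]
  exact C.projQ_map.symm

theorem projQ_transpose : C.projQᵀ = C.projQ := by
  ext x y
  apply Rat.cast_injective (α := ℂ)
  rw [Matrix.transpose_apply, C.projQ_cast, C.projQ_cast]
  have h := congrFun (congrFun (idem_transpose (Ω := Ω) C.psi.2) x) y
  rw [Matrix.transpose_apply] at h
  rw [h, funext C.conj_psi]

theorem trace_projQ : C.projQ.trace = p := by
  apply Rat.cast_injective (α := ℂ)
  rw [Rat.cast_natCast, Matrix.trace, Rat.cast_sum]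
  simp only [Matrix.diag, C.projQ_cast]
  have h := trace_idem (Ω := Ω) C.psi.2
  rw [LinearMap.trace_eq_matrix_trace ℂ (Pi.basisFun ℂ Ω), LinearMap.toMatrix_eq_toMatrix',
    classInner_pi (Char.IsIrrCharacter.isCharacter C.psi.2), C.mult_psi, Nat.cast_one, mul_one,
    C.psi_one] at h
  exact h

theorem sum_projQ (x : Ω) : ∑ y, C.projQ x y = 0 := by
  have := D.prim
  have : Nonempty Ω := ⟨x⟩
  apply Rat.cast_injective (α := ℂ)
  rw [Rat.cast_sum, Rat.cast_zero]
  simp only [C.projQ_cast]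
  have h := congrArg (fun T => mat T x x) (idem_mul (Ω := Ω) C.psi.2 (Char.isIrrCharacter_one (G := G)))
  simp only [mat_mul, Matrix.mul_apply] at h
  rw [if_neg (show (C.psi : G → ℂ) ≠ 1 from fun e => C.psi_ne_triv (Subtype.ext e))] at h
  simp only [show (1 : G → ℂ) = fun _ => 1 from rfl, mat_idem_triv, ← Finset.sum_mul] at h
  rw [show mat (0 : Module.End ℂ (Ω → ℂ)) x x = 0 by simp [mat]] at h
  exact (mul_eq_zero.mp h).resolve_right (inv_ne_zero (Nat.cast_ne_zero.2 Fintype.card_ne_zero))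

theorem projQ_diag (x : Ω) : C.projQ x x = 1 / 2 := by
  have := D.prim
  have h := C.trace_projQ
  rw [Matrix.trace, Finset.sum_congr rfl fun y _ => (show C.projQ.diag y = C.projQ x x by
    obtain ⟨g, rfl⟩ := exists_smul_eq G x y
    exact C.projQ_smul g x x), Finset.sum_const, Finset.card_univ, ← Nat.card_eq_fintype_card,
    D.card_eq, nsmul_eq_mul, Nat.cast_mul, Nat.cast_two] at h
  have hp0 : (0 : ℚ) < p := Nat.cast_pos.mpr hp.out.pos
  nlinarith

/-- The key facts about one suborbit. -/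
theorem exists_delta {a b : Ω} (hb : b ≠ a) : ∃ δ J : ℤ,
    (Nat.card (orbit (stabilizer G a) b) : ℤ) = Nat.card C.S * J + δ ∧
    C.projQ a b = -(δ : ℚ) / (2 * Nat.card (orbit (stabilizer G a) b)) ∧
    2 * (C.R.card : ℤ) * δ * (δ - 1) + Nat.card C.S * J ^ 2 ≤
      2 * C.R.card * Nat.card C.S * J := by
  classical
  have := Fintype.ofFinite (IrrCharacter G)
  have := D.prim
  have : Nonempty Ω := ⟨a⟩
  set k := Nat.card (orbit (stabilizer G a) b) with hk
  have hk0 : 0 < k := by
    have : Nonempty (orbit (stabilizer G a) b) := (nonempty_orbit _).to_subtype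
    exact Nat.card_pos
  set e := Nat.card C.S
  set r := C.R.card
  have he0 : 0 < e := Nat.card_pos
  have her : r * e = p - 1 := C.card_mul
  have hp1 := hp.out.two_le
  set A : Matrix Ω Ω ℚ := (orbMat G a b).map (Int.cast : ℤ → ℚ) with hA
  set AC : Matrix Ω Ω ℂ := (orbMat G a b).map (Int.cast : ℤ → ℂ) with hAC
  have hAcast : A.map (Rat.cast : ℚ → ℂ) = AC := by
    ext x y
    simp [A, AC]
  have hAP : ∀ x y, A x y * C.projQ y x = A x y * C.projQ a b := by
    intro x y
    by_cases hxy : orbMat G a b x y = 0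
    · simp [A, hxy]
    · congr 1
      have hmem : (x, y) ∈ orbit G (a, b) := by
        by_contra hn
        exact hxy (if_neg hn)
      obtain ⟨g, hg⟩ := hmem
      obtain ⟨rfl, rfl⟩ : g • a = x ∧ g • b = y := ⟨congrArg Prod.fst hg, congrArg Prod.snd hg⟩
      exact (congrFun (congrFun C.projQ_transpose (g • a)) (g • b)).trans (C.projQ_smul g a b)
  have hrow : ∀ x, ∑ y, A x y = (k : ℚ) := fun x => by
    simp only [A, Matrix.map_apply, ← Int.cast_sum, sum_orbMat, Int.cast_natCast, k]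
  have hcardΩ : Fintype.card Ω = 2 * p := by rw [← Nat.card_eq_fintype_card, D.card_eq]
  have htrP : (A * C.projQ).trace = 2 * p * k * C.projQ a b := by
    simp only [Matrix.trace, Matrix.diag, Matrix.mul_apply, hAP, ← Finset.sum_mul, hrow,
      Finset.sum_const, Finset.card_univ, hcardΩ, nsmul_eq_mul, Nat.cast_mul, Nat.cast_ofNat]
  set ψc := (C.psi : G → ℂ)
  obtain ⟨z, hz, hz'⟩ := trace_mul_idem (Ω := Ω) C.psi.2 (orbMat_mem (G := G) a b)
  rw [C.psi_one] at hz'
  have htrC : LinearMap.trace ℂ (Ω → ℂ) (Matrix.toLin' AC * idem ψc) =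
      (((A * C.projQ).trace : ℚ) : ℂ) := by
    rw [LinearMap.trace_eq_matrix_trace ℂ (Pi.basisFun ℂ Ω), LinearMap.toMatrix_eq_toMatrix',
      LinearMap.toMatrix'_mul, LinearMap.toMatrix'_toLin', ← hAcast]
    change (A.map (Rat.cast : ℚ → ℂ) * mat (idem ψc)).trace = _
    rw [← C.projQ_map]
    simp only [Matrix.trace, Matrix.diag, Matrix.mul_apply, Matrix.map_apply, Rat.cast_sum,
      Rat.cast_mul]
  have hint : ∀ q : ℚ, IsIntegral ℤ (q : ℂ) → ∃ n : ℤ, q = n := by
    intro q hq
    have h : IsIntegral ℤ q :=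
      (isIntegral_algHom_iff ((Rat.castHom ℂ).toIntAlgHom) (Rat.castHom ℂ).injective).mp hq
    obtain ⟨n, hn⟩ := IsIntegrallyClosed.isIntegral_iff.mp h
    exact ⟨n, by simpa using hn.symm⟩
  have hp0 : (p : ℂ) ≠ 0 := Nat.cast_ne_zero.2 hp.out.ne_zero
  have hpQ : (0 : ℚ) < p := Nat.cast_pos.mpr hp.out.pos
  obtain ⟨x, hx⟩ := hint ((A * C.projQ).trace / p) (by
    rw [Rat.cast_div, Rat.cast_natCast, ← htrC, hz', mul_div_cancel_left₀ _ hp0]
    exact hz)
  rw [div_eq_iff hpQ.ne'] at hx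
  have hR : ∀ χ ∈ C.R, ∃ w : ℂ, IsIntegral ℤ w ∧
      LinearMap.trace ℂ (Ω → ℂ) (Matrix.toLin' AC * idem (χ : G → ℂ)) = (e : ℂ) * w := by
    intro χ hχ
    obtain ⟨w, hw, hw'⟩ := trace_mul_idem (Ω := Ω) χ.2 (orbMat_mem (G := G) a b)
    exact ⟨w, hw, by rw [hw', C.degree_R hχ]⟩
  choose! w hw hw' using hR
  have hzero : (0 : ℂ) = k + (((A * C.projQ).trace : ℚ) : ℂ) + (e : ℂ) * ∑ χ ∈ C.R, w χ := by
    have h := trace_orbMat (G := G) hb
    conv_lhs at h => rw [← mul_one (Matrix.toLin' _), ← sum_idem (G := G), Finset.mul_sum, map_sum]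
    rw [← Finset.sum_subset (Finset.subset_univ (insert triv (insert C.psi C.R))) fun χ _ hχ => ?_,
      Finset.sum_insert (by simp [C.psi_ne_triv.symm, C.triv_notMem]),
      Finset.sum_insert C.psi_notMem, ← hAC,
      show LinearMap.trace ℂ (Ω → ℂ) (Matrix.toLin' AC * idem (triv : IrrCharacter G).1) =
        (k : ℂ) from trace_mul_idem_one a b,
      htrC, Finset.sum_congr rfl hw', ← Finset.mul_sum] at h
    · rw [← h]
      ring
    · rw [(idem_eq_zero_iff χ.2).mpr, mul_zero, map_zero]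
      rw [classInner_pi (Char.IsIrrCharacter.isCharacter χ.2)]
      by_contra hne
      rcases C.cases χ (fun e => hne (by rw [e, Nat.cast_zero])) with e | e | e <;>
        exact hχ (by simp [e])
  rw [hx] at hzero
  push_cast at hzero
  obtain ⟨T, hT⟩ := hint (-((k : ℚ) + x * p) / e) (by
    have : (((-((k : ℚ) + x * p) / e : ℚ)) : ℂ) = ∑ χ ∈ C.R, w χ := by
      push_cast
      rw [div_eq_iff (Nat.cast_ne_zero.2 he0.ne')]
      linear_combination hzero
    rw [this]
    exact IsIntegral.sum _ hw)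
  rw [div_eq_iff (Nat.cast_pos.mpr he0).ne'] at hT
  have hpe : (p : ℚ) = r * e + 1 := by
    have : ((r * e : ℕ) : ℚ) = ((p - 1 : ℕ) : ℚ) := by rw [her]
    push_cast [Nat.cast_sub (show 1 ≤ p by omega)] at this
    linarith
  refine ⟨-x, -(r * x + T), ?_, ?_, ?_⟩
  · have : (k : ℚ) = ((e : ℤ) * -((r : ℤ) * x + T) + -x : ℤ) := by
      push_cast
      rw [hpe] at hT
      linarith
    exact_mod_cast this
  · rw [htrP] at hx
    have : (k : ℚ) ≠ 0 := Nat.cast_ne_zero.2 hk0.ne'
    rw [Int.cast_neg, neg_neg, eq_div_iff (by positivity)]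
    apply mul_left_cancel₀ hpQ.ne'
    linear_combination hx
  · set P₁ : Matrix Ω Ω ℚ := Matrix.of fun _ _ => ((2 * p : ℕ) : ℚ)⁻¹ with hP₁
    have h2p : ((2 * p : ℕ) : ℚ) ≠ 0 := Nat.cast_ne_zero.2 (by omega)
    have hP₁P₁ : P₁ * P₁ = P₁ := by
      ext x y
      simp only [Matrix.mul_apply, P₁, Matrix.of_apply, Finset.sum_const, Finset.card_univ, hcardΩ, nsmul_eq_mul]
      rw [← mul_assoc, mul_inv_cancel₀ h2p, one_mul]
    have hP₁t : P₁ᵀ = P₁ := rfl
    have hP₁P₂ : P₁ * C.projQ = 0 := by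
      ext x y
      simp only [Matrix.mul_apply, P₁, Matrix.of_apply, ← Finset.mul_sum, Matrix.zero_apply]
      rw [Finset.sum_congr rfl fun z _ => (congrFun (congrFun C.projQ_transpose z) y).symm]
      simp only [Matrix.transpose_apply, C.sum_projQ, mul_zero]
    have hP₂P₁ : C.projQ * P₁ = 0 := by
      rw [← hP₁t, ← C.projQ_transpose, ← Matrix.transpose_mul, hP₁P₂, Matrix.transpose_zero]
    have htr₁ : P₁.trace = 1 := by
      simp only [Matrix.trace, Matrix.diag, P₁, Matrix.of_apply, Finset.sum_const, Finset.card_univ, hcardΩ,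
        nsmul_eq_mul]
      exact mul_inv_cancel₀ h2p
    set P₃ := 1 - P₁ - C.projQ with hP₃
    have hP₃t : P₃ᵀ = P₃ := by
      rw [hP₃, Matrix.transpose_sub, Matrix.transpose_sub, Matrix.transpose_one, hP₁t, C.projQ_transpose]
    have hP₃P₃ : P₃ * P₃ = P₃ := by
      rw [hP₃]
      simp only [Matrix.sub_mul, Matrix.mul_sub, Matrix.one_mul, Matrix.mul_one, hP₁P₁, hP₁P₂,
        hP₂P₁, C.projQ_mul_self]
      abel
    have htr₃ : P₃.trace = (p : ℚ) - 1 := by
      rw [hP₃, Matrix.trace_sub, Matrix.trace_sub, Matrix.trace_one, htr₁, C.trace_projQ, hcardΩ]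
      push_cast
      ring
    have hA₁ : (A * P₁).trace = k := by
      simp only [Matrix.trace, Matrix.diag, Matrix.mul_apply, P₁, Matrix.of_apply, ← Finset.sum_mul, hrow,
        Finset.sum_const, Finset.card_univ, hcardΩ, nsmul_eq_mul]
      rw [mul_right_comm, mul_inv_cancel₀ h2p, one_mul]
    have hAtr : A.trace = 0 := by
      refine Finset.sum_eq_zero fun x _ => ?_
      rw [Matrix.diag, hA, Matrix.map_apply, orbMat, if_neg, Int.cast_zero]
      rintro ⟨g, hg⟩
      exact hb (smul_left_cancel g ((congrArg Prod.snd hg).trans (congrArg Prod.fst hg).symm))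
    have hA₃ : (A * P₃).trace = -(k + x * p) := by
      rw [hP₃, Matrix.mul_sub, Matrix.mul_sub, Matrix.mul_one, Matrix.trace_sub, Matrix.trace_sub,
        hAtr, hA₁, hx]
      ring
    have hAA : (A * Aᵀ).trace = 2 * p * k := by
      simp only [Matrix.trace, Matrix.diag, Matrix.mul_apply, Matrix.transpose_apply]
      have hsq : ∀ x y, A x y * A x y = A x y := by
        intro x y
        simp only [A, Matrix.map_apply, orbMat]
        split_ifs <;> simp
      simp only [hsq, hrow, Finset.sum_const, Finset.card_univ, hcardΩ, nsmul_eq_mul]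
      push_cast
      ring
    have h1 := trace_sq_le A P₁ hP₁P₁ hP₁t (by rw [htr₁]; exact one_pos)
    have h2 := trace_sq_le A C.projQ C.projQ_mul_self C.projQ_transpose (by rw [C.trace_projQ]; exact hpQ)
    have h3 := trace_sq_le A P₃ hP₃P₃ hP₃t (by
      rw [htr₃, sub_pos]
      exact_mod_cast hp.out.one_lt)
    have hsum : (A * P₁ * Aᵀ).trace + (A * C.projQ * Aᵀ).trace + (A * P₃ * Aᵀ).trace =
        2 * p * k := by
      rw [← Matrix.trace_add, ← Matrix.trace_add, ← Matrix.add_mul, ← Matrix.add_mul,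
        ← Matrix.mul_add, ← Matrix.mul_add, hP₃,
        show P₁ + C.projQ + (1 - P₁ - C.projQ) = (1 : Matrix Ω Ω ℚ) by abel, Matrix.mul_one, hAA]
    rw [hA₁, htr₁, div_one] at h1
    rw [hx, C.trace_projQ] at h2
    rw [hA₃, htr₃, hpe] at h3
    have hre : (0 : ℚ) < r * e := by
      have : 0 < r * e := by rw [her]; omega
      exact_mod_cast this
    rw [show ((x : ℚ) * p) ^ 2 / p = (x : ℚ) ^ 2 * p by field_simp] at h2
    rw [add_sub_cancel_right, div_le_iff₀ hre] at h3
    rw [hpe] at hsum hT h2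
    set U₁ := (A * P₁ * Aᵀ).trace
    set U₂ := (A * C.projQ * Aᵀ).trace
    set U₃ := (A * P₃ * Aᵀ).trace
    have hkey : ((k : ℚ) + x * (r * e + 1)) ^ 2 ≤
        (2 * (r * e + 1) * k - (k : ℚ) ^ 2 - (x : ℚ) ^ 2 * (r * e + 1)) * (r * e) := by
      refine le_trans (by rw [neg_sq] at h3; exact h3) (mul_le_mul_of_nonneg_right ?_ hre.le)
      linarith
    rw [show (k : ℚ) = -(T * e) - x * (r * e + 1) by linarith] at hkey
    have goalQ : 2 * (r : ℚ) * -x * (-x - 1) + e * (-((r : ℚ) * x + T)) ^ 2 ≤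
        2 * r * e * -((r : ℚ) * x + T) := by
      have he : (0 : ℚ) < e := Nat.cast_pos.mpr he0
      have hre1 : (0 : ℚ) < r * e + 1 := by linarith
      have hid : (2 * (r * e + 1) * (-(T * e) - x * (r * e + 1)) - (-((T : ℚ) * e) - x * (r * e + 1)) ^ 2
          - (x : ℚ) ^ 2 * (r * e + 1)) * (r * e) - (-(T * e) - x * (r * e + 1) + x * (r * e + 1)) ^ 2 =
          ((r : ℚ) * e + 1) * e * (2 * r * e * -((r : ℚ) * x + T) - (2 * (r : ℚ) * -x * (-x - 1) + e * (-((r : ℚ) * x + T)) ^ 2)) := by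
        ring
      have hnn : 0 ≤ ((r : ℚ) * e + 1) * e * (2 * r * e * -((r : ℚ) * x + T) -
          (2 * (r : ℚ) * -x * (-x - 1) + e * (-((r : ℚ) * x + T)) ^ 2)) := by
        rw [← hid]
        linarith
      have := nonneg_of_mul_nonneg_right hnn (mul_pos hre1 he)
      linarith
    exact_mod_cast goalQ

/-- Suborbit data relative to `a`. -/
theorem exists_suborbit_data (a : Ω) [Fintype (orbitRel.Quotient (stabilizer G a) Ω)]
    [DecidableEq (orbitRel.Quotient (stabilizer G a) Ω)] :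
    ∃ k δ J : orbitRel.Quotient (stabilizer G a) Ω → ℤ,
      (∀ b, k (⟦b⟧) = Nat.card (orbit (stabilizer G a) b)) ∧
      (∀ q ∈ Finset.univ.erase ⟦a⟧, 2 ≤ k q ∧ k q = Nat.card C.S * J q + δ q ∧ 1 ≤ J q ∧
        2 * (C.R.card : ℤ) * δ q * (δ q - 1) + Nat.card C.S * J q ^ 2 ≤
          2 * C.R.card * Nat.card C.S * J q) ∧
      (Finset.univ.erase (⟦a⟧ : orbitRel.Quotient (stabilizer G a) Ω)).card = C.R.card + 1 ∧
      ∑ q ∈ Finset.univ.erase ⟦a⟧, δ q = 1 ∧
      ∑ q ∈ Finset.univ.erase ⟦a⟧, J q = 2 * C.R.card ∧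
      ∑ q ∈ Finset.univ.erase ⟦a⟧, (δ q : ℚ) ^ 2 / k q = 1 := by
  classical
  have := D.prim
  set Q := Finset.univ.erase (⟦a⟧ : orbitRel.Quotient (stabilizer G a) Ω) with hQ
  let kN : orbitRel.Quotient (stabilizer G a) Ω → ℕ := fun q =>
    Nat.card (orbit (stabilizer G a) (Quotient.out q))
  have hkN : ∀ b, kN (⟦b⟧) = Nat.card (orbit (stabilizer G a) b) := fun b =>
    congrArg (fun s : Set Ω => Nat.card s) (orbit_out a b)
  have hne : ∀ q ∈ Q, Quotient.out q ≠ a := fun q hq e =>
    Finset.ne_of_mem_erase hq (by rw [← Quotient.out_eq q, e])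
  choose! δ J hk hP hineq using fun q hq => C.exists_delta (hne q hq)
  have hk2 : ∀ q ∈ Q, 2 ≤ kN q := fun q hq => D.two_le_subdegree (hne q hq)
  set e := Nat.card C.S
  set r := C.R.card
  have he0 : 0 < e := Nat.card_pos
  have hr0 : 0 < r := Finset.card_pos.mpr ⟨_, C.Y_mem⟩
  have hJ : ∀ q ∈ Q, 1 ≤ J q := by
    intro q hq
    by_contra hlt
    have h1 := hineq q hq
    have h2 : 0 ≤ 2 * (r : ℤ) * δ q * (δ q - 1) := by
      rw [mul_assoc]
      refine mul_nonneg (by positivity) ?_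
      rcases le_or_gt (δ q) 0 with h | h
      · exact mul_nonneg_of_nonpos_of_nonpos h (by omega)
      · exact mul_nonneg h.le (by omega)
    have hJ0 : J q = 0 := by
      by_contra hne'
      have : 0 < J q * J q := mul_self_pos.mpr hne'
      have he' : (0 : ℤ) < e := by exact_mod_cast he0
      have hr' : (0 : ℤ) ≤ r := by positivity
      nlinarith [mul_pos he' this, mul_nonneg (mul_nonneg hr' he'.le) (show (0 : ℤ) ≤ -J q by omega)]
    have h3 := hk q hq
    rw [hJ0, mul_zero, zero_add] at h3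
    have h4 : (2 : ℤ) ≤ δ q := by
      rw [← h3]
      exact_mod_cast hk2 q hq
    rw [hJ0] at h1
    nlinarith [mul_le_mul_of_nonneg_left (show (2 : ℤ) ≤ δ q * (δ q - 1) by nlinarith)
      (show (0 : ℤ) ≤ 2 * r by positivity)]
  -- sums over the points and over the suborbits
  have hsum : ∀ F : orbitRel.Quotient (stabilizer G a) Ω → ℚ,
      ∑ b ∈ Finset.univ.erase a, F (⟦b⟧) = ∑ q ∈ Q, (kN q : ℚ) * F q := by
    intro F
    rw [← Finset.sum_fiberwise_of_maps_to (g := fun b : Ω => (⟦b⟧ : orbitRel.Quotient (stabilizer G a) Ω))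
      (t := Q) fun b hb => ?_]
    · refine Finset.sum_congr rfl fun q hq => ?_
      rw [Finset.sum_congr rfl (g := fun _ => F q) fun b hb => by rw [(Finset.mem_filter.mp hb).2],
        Finset.sum_const, nsmul_eq_mul]
      congr 2
      change _ = Nat.card (orbit (stabilizer G a) (Quotient.out q))
      rw [Nat.card_coe_set_eq, Set.ncard_eq_toFinset_card']
      congr 1
      ext b
      simp only [Finset.mem_filter, Finset.mem_erase, Finset.mem_univ, and_true, Set.mem_toFinset]
      constructor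
      · rintro ⟨-, rfl⟩
        rw [orbit_out]
        exact mem_orbit_self b
      · intro hb
        have h : (⟦b⟧ : orbitRel.Quotient (stabilizer G a) Ω) = q := by
          rw [← Quotient.out_eq q]
          exact Quotient.sound (orbitRel_apply.mpr hb)
        exact ⟨fun e => Finset.ne_of_mem_erase hq (by rw [← h, e]), h⟩
    · refine Finset.mem_erase.mpr ⟨fun e => Finset.ne_of_mem_erase hb ?_, Finset.mem_univ _⟩
      obtain ⟨g, hg⟩ := orbitRel_apply.mp (Quotient.exact e)
      exact hg.symm.trans g.2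
  have hconst : ∀ b, C.projQ a b =
      C.projQ a (Quotient.out (⟦b⟧ : orbitRel.Quotient (stabilizer G a) Ω)) := by
    intro b
    obtain ⟨⟨g, hg⟩, hgb⟩ := orbitRel_apply.mp (Quotient.mk_out (s := orbitRel (stabilizer G a) Ω) b)
    rw [← hgb]
    change C.projQ a b = C.projQ a (g • b)
    exact (C.projQ_smul g a b).symm.trans (congrArg (fun x => C.projQ x (g • b)) (mem_stabilizer_iff.mp hg))
  have hkpos : ∀ q ∈ Q, (kN q : ℚ) ≠ 0 := fun q hq => by
    have := hk2 q hq
    exact Nat.cast_ne_zero.mpr (by omega)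
  have h1 : ∑ q ∈ Q, (δ q : ℚ) = 1 := by
    have h := C.sum_projQ a
    rw [← Finset.add_sum_erase _ _ (Finset.mem_univ a), C.projQ_diag,
      Finset.sum_congr rfl fun b _ => hconst b, hsum fun q => C.projQ a (Quotient.out q),
      Finset.sum_congr rfl (g := fun q => -(1 / 2) * (δ q : ℚ)), ← Finset.mul_sum] at h
    · linarith
    · intro q hq
      rw [hP q hq]
      have := hkpos q hq
      change (kN q : ℚ) * (-(δ q : ℚ) / (2 * (kN q : ℚ))) = _
      field_simp
  have h2 : ∑ q ∈ Q, (δ q : ℚ) ^ 2 / (kN q : ℚ) = 1 := by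
    have h := congrFun (congrFun C.projQ_mul_self a) a
    rw [Matrix.mul_apply, ← Finset.add_sum_erase _ _ (Finset.mem_univ a), C.projQ_diag,
      Finset.sum_congr rfl fun b (_ : b ∈ Finset.univ.erase a) => (show C.projQ a b * C.projQ b a =
        C.projQ a (Quotient.out (⟦b⟧ : orbitRel.Quotient (stabilizer G a) Ω)) ^ 2 by
          rw [show C.projQ b a = C.projQ a b from congrFun (congrFun C.projQ_transpose a) b, ← hconst b]
          ring),
      hsum fun q => C.projQ a (Quotient.out q) ^ 2,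
      Finset.sum_congr rfl (g := fun q => 1 / 4 * ((δ q : ℚ) ^ 2 / (kN q : ℚ))), ← Finset.mul_sum] at h
    · linarith
    · intro q hq
      rw [hP q hq]
      have := hkpos q hq
      change (kN q : ℚ) * (-(δ q : ℚ) / (2 * (kN q : ℚ))) ^ 2 = _
      field_simp
      ring
  have h3 : ∑ q ∈ Q, (kN q : ℚ) = 2 * p - 1 := by
    have h := hsum fun _ => 1
    simp only [Finset.sum_const, nsmul_one, mul_one, Finset.card_erase_of_mem (Finset.mem_univ a),
      Finset.card_univ, ← Nat.card_eq_fintype_card, D.card_eq] at h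
    rw [← h, Nat.cast_sub (by have := hp.out.pos; omega)]
    push_cast
    ring
  refine ⟨fun q => kN q, δ, J, fun b => congrArg Nat.cast (hkN b),
    fun q hq => ⟨show (2 : ℤ) ≤ (kN q : ℤ) by exact_mod_cast hk2 q hq, hk q hq, hJ q hq, hineq q hq⟩,
    ?_, by exact_mod_cast h1, ?_, by exact_mod_cast h2⟩
  · rw [hQ, Finset.card_erase_of_mem (Finset.mem_univ _), Finset.card_univ, ← Nat.card_eq_fintype_card,
      card_suborbits, C.card_orbitals]
    omega
  · have h4 : ∑ q ∈ Q, ((e : ℚ) * J q + δ q) = 2 * p - 1 := by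
      rw [← h3]
      refine Finset.sum_congr rfl fun q hq => ?_
      have := congrArg (fun n : ℤ => (n : ℚ)) (hk q hq)
      push_cast at this
      exact this.symm
    rw [Finset.sum_add_distrib, ← Finset.mul_sum, h1] at h4
    have hpe : (p : ℚ) = r * e + 1 := by
      have h : ((r * e : ℕ) : ℚ) = ((p - 1 : ℕ) : ℚ) := by rw [C.card_mul]
      push_cast [Nat.cast_sub hp.out.one_le] at h
      linarith
    have : ((∑ q ∈ Q, J q : ℤ) : ℚ) = ((2 * r : ℤ) : ℚ) := by
      push_cast
      apply mul_left_cancel₀ (Nat.cast_ne_zero.2 he0.ne' : (e : ℚ) ≠ 0)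
      rw [hpe] at h4
      linarith
    exact_mod_cast this

end Consts

end Setup

end Cfsg.Agent.Perm.TwiceP
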