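/-
Wielandt's theorem on primitive groups of degree `2 * p`.

* `Setup.Consts.dvd_subdegree` : the congruences of the subdegrees when the normaliser preserves sides
* `Setup.Consts.false_of_preserving` : then there is only one Galois constituent of small degree
* `Setup.evenPart_primitive`
* `Setup.wielandt` : rank three and the subdegrees
-/
import Cfsg.Agent.Lib.Perm.TwiceP.Suborbits
import Cfsg.Agent.Lib.Perm.TwiceP.Arith
import Cfsg.Agent.S0899
import Mathlib.GroupTheory.Transfer

set_option autoImplicit false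

namespace Cfsg.Agent.Perm.TwiceP

open Cfsg MulAction Perm.Orbital
open scoped Pointwise
open scoped ComplexConjugate

namespace Setup

variable {p : ℕ} [hp : Fact p.Prime] {G Ω : Type*} [Group G] [MulAction G Ω] [FaithfulSMul G Ω]
variable (D : Setup p G Ω) [Finite G] [Fintype G] [Fintype Ω] [DecidableEq Ω]

/-- A `p`-subgroup containing the generator is the group it generates. -/
theorem eq_pw_of_pGroup (P : Subgroup G) (hP : IsPGroup p P) (hg : D.gen ∈ P) {x : G} (hx : x ∈ P) :
    ∃ c, x = D.pw c := by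
  have : Nontrivial P := ⟨⟨⟨D.gen, hg⟩, 1, fun e => D.gen_ne_one (congrArg Subtype.val e)⟩⟩
  have := hP.center_nontrivial
  obtain ⟨z, hz1⟩ := exists_ne (1 : Subgroup.center P)
  have hzg : Commute ((z : P) : G) D.gen :=
    (congrArg Subtype.val (Subgroup.mem_center_iff.mp z.2 ⟨D.gen, hg⟩)).symm
  have hzx : Commute x ((z : P) : G) := congrArg Subtype.val (Subgroup.mem_center_iff.mp z.2 ⟨x, hx⟩)
  have hz := D.eq_pw hzg
  have hc : (D.coord (((z : P) : G) • D.base)).2 ≠ 0 := fun e => by
    rw [e, pw_zero] at hz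
    exact hz1 (Subtype.ext (Subtype.ext hz))
  rw [hz] at hzx
  exact ⟨_, D.eq_pw (D.commute_gen_of_commute_pw hc hzx)⟩

include D in
theorem not_all_sylow_normal (h : ∀ P : Sylow p G, (P : Subgroup G).Normal) : False := by
  obtain ⟨P, hP⟩ := IsPGroup.exists_le_sylow (p := p) (P := Subgroup.zpowers D.gen)
    (IsPGroup.of_card (n := 1) (by rw [Nat.card_zpowers, D.orderOf_gen, pow_one]))
  have hg : D.gen ∈ (P : Subgroup G) := hP (Subgroup.mem_zpowers _)
  refine D.zpowers_gen_not_normal ?_
  have : (P : Subgroup G) = Subgroup.zpowers D.gen := by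
    refine le_antisymm (fun x hx => ?_) hP
    obtain ⟨c, rfl⟩ := D.eq_pw_of_pGroup _ P.2 hg hx
    exact ⟨(c.val : ℤ), zpow_natCast _ _⟩
  exact this ▸ h P

namespace Consts

variable {D} (C : D.Consts)

/-- A linear constituent is impossible. -/
theorem two_le_card_S : 2 ≤ Nat.card C.S := by
  by_contra hlt
  have he : Nat.card C.S = 1 := by have := Nat.card_pos (α := C.S); omega
  obtain ⟨d, ρ, hirr, hρ⟩ := C.Y.2
  have hd : d = 1 := by
    have h := C.degree_R C.Y_mem
    rw [← hρ, Representation.char_one, Module.finrank_fin_fun, he] at h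
    exact_mod_cast h
  subst hd
  have hinj := D.injective_of_constituent C.Y (fun e => C.triv_notMem (e ▸ C.Y_mem))
    (by rw [C.mult_R _ C.Y_mem]; exact one_ne_zero) ρ hρ
  refine D.not_isMulCommutative fun g h => hinj ?_
  rw [map_mul, map_mul]
  apply LinearMap.toMatrix'.injective
  rw [LinearMap.toMatrix'_mul, LinearMap.toMatrix'_mul]
  ext i j
  rw [Subsingleton.elim i 0, Subsingleton.elim j 0]
  simp [Matrix.mul_apply, mul_comm]

theorem card_S_bound : C.R.card ≤ Nat.card C.S + 1 := by
  by_contra hlt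
  obtain ⟨d, ρ, hirr, hρ⟩ := C.Y.2
  have hd : d = Nat.card C.S := by
    have h := C.degree_R C.Y_mem
    rw [← hρ, Representation.char_one, Module.finrank_fin_fun] at h
    exact_mod_cast h
  have hinj := D.injective_of_constituent C.Y (fun e => C.triv_notMem (e ▸ C.Y_mem))
    (by rw [C.mult_R _ C.Y_mem]; exact one_ne_zero) ρ hρ
  refine D.not_all_sylow_normal fun P => S0899.result d ρ hinj p (Or.inl ?_) P
  have h1 := C.card_mul
  have := hp.out.two_le
  rw [hd]
  nlinarith [Nat.sub_add_cancel (show 1 ≤ p by omega)]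

/-- An element normalising the generator, fixing the base point, with multiplier generating `S`. -/
theorem exists_normalizing_fix (hr : 2 ≤ C.R.card)
    (hpres : ∀ (g : G) (u : (ZMod p)ˣ), g * D.gen * g⁻¹ = D.pw u →
      (D.coord (g • D.base)).1 = false) :
    ∃ (g : G) (u : (ZMod p)ˣ), Subgroup.zpowers u = C.S ∧ g * D.gen * g⁻¹ = D.pw u ∧
      g • D.base = D.base := by
  obtain ⟨⟨u, hu⟩, hgen⟩ := IsCyclic.exists_generator (α := C.S)
  have hz : Subgroup.zpowers u = C.S := by
    refine le_antisymm (Subgroup.zpowers_le.mpr hu) fun v hv => ?_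
    obtain ⟨k, hk⟩ := Subgroup.mem_zpowers_iff.mp (hgen ⟨v, hv⟩)
    exact ⟨k, congrArg Subtype.val hk⟩
  obtain ⟨g, hg⟩ := D.exists_normalizing C hr hu
  have hs := hpres g u hg
  refine ⟨D.pw (-(D.coord (g • D.base)).2) * g, u, hz, ?_, D.coord.injective ?_⟩
  · calc D.pw (-(D.coord (g • D.base)).2) * g * D.gen * (D.pw (-(D.coord (g • D.base)).2) * g)⁻¹
        = D.pw (-(D.coord (g • D.base)).2) * (g * D.gen * g⁻¹) *
            (D.pw (-(D.coord (g • D.base)).2))⁻¹ := by group
      _ = D.pw u := by rw [hg, (D.pw_comm _ _).eq, mul_inv_cancel_right]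
  · rw [mul_smul, coord_pw, hs]
    simp [base]

omit [DecidableEq Ω] in
open Classical in
/-- Exactly one suborbit is congruent to one, the others to zero, modulo `e`. -/
theorem dvd_subdegree {g : G} {u : (ZMod p)ˣ} (hu : Subgroup.zpowers u = C.S) (hu1 : u ≠ 1)
    (hg : g * D.gen * g⁻¹ = D.pw u) (hfix : g • D.base = D.base) :
    ∃ b : Ω, b ≠ D.base ∧ ∀ c : Ω, c ≠ D.base →
      (Nat.card C.S : ℤ) ∣ (Nat.card (orbit (stabilizer G D.base) c) : ℤ) -
        (if b ∈ orbit (stabilizer G D.base) c then 1 else 0) := by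
  classical
  have hu' : (u : ZMod p) ≠ 1 := fun e => hu1 (Units.ext e)
  have hside : ∀ i, (D.coord (g • D.coord.symm (i, 0))).1 = i := fun i => by
    rw [D.side_normalizing u.ne_zero hg, hfix]
    simp [base]
  -- the fixed point on each side
  set m : Bool → ZMod p := fun i => (D.coord (g • D.coord.symm (i, 0))).2 / (1 - u)
  have h1u : (1 - (u : ZMod p)) ≠ 0 := sub_ne_zero.mpr (Ne.symm hu')
  let pt : Bool → ZMod p → Ω := fun i n => D.coord.symm (i, m i + n)
  have hact : ∀ i n, g • pt i n = pt i (u * n) := by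
    intro i n
    apply D.coord.injective
    rw [D.coord_normalizing hg, Equiv.apply_symm_apply, hside]
    refine Prod.ext rfl ?_
    have : m i * (1 - (u : ZMod p)) = (D.coord (g • D.coord.symm (i, 0))).2 :=
      div_mul_cancel₀ _ h1u
    linear_combination -this
  have hm0 : pt false 0 = D.base := by
    have h : g • D.coord.symm (false, 0) = D.coord.symm (false, 0) := hfix
    simp [pt, m, h, base]
  refine ⟨pt true 0, fun e => ?_, fun c hc => ?_⟩
  · rw [← hm0] at e
    simp [pt] at e
  set O : Set Ω := orbit (stabilizer G D.base) c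
  have hgO : ∀ y ∈ O, g • y ∈ O := by
    rintro y ⟨h, rfl⟩
    exact ⟨(⟨g, hfix⟩ : stabilizer G D.base) * h, mul_smul (⟨g, hfix⟩ : stabilizer G D.base) h c⟩
  have hbase : D.base ∉ O := fun h => hc (by
    obtain ⟨h', hh⟩ := mem_orbit_symm.mp h
    exact hh.symm.trans h'.2)
  -- each side
  have hX : ∀ i, Nat.card C.S ∣ Nat.card {v : (ZMod p)ˣ | pt i v ∈ O} := by
    intro i
    refine dvd_card_of_invariant C.S _ fun s hs v hv => ?_
    rw [← hu] at hs
    obtain ⟨k, rfl⟩ := (IsOfFinOrder.mem_powers_iff_mem_zpowers (isOfFinOrder_of_finite u)).mpr hs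
    clear hs
    change pt i ((v * u ^ k : (ZMod p)ˣ) : ZMod p) ∈ O
    induction k with
    | zero => simpa using hv
    | succ k ih =>
      have := hgO _ ih
      rw [hact] at this
      change pt i ((v * u ^ (k + 1) : (ZMod p)ˣ) : ZMod p) ∈ O
      rw [Units.val_mul, Units.val_pow_eq_pow_val] at this ⊢
      rwa [pow_succ', mul_left_comm]
  have hsideCard : ∀ i, (Finset.univ.filter fun n : ZMod p => pt i n ∈ O).card =
      (if pt i 0 ∈ O then 1 else 0) + Nat.card {v : (ZMod p)ˣ | pt i v ∈ O} := by
    intro i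
    rw [Finset.card_filter, ← Finset.add_sum_erase _ _ (Finset.mem_univ (0 : ZMod p)),
      ← Finset.card_filter, Nat.card_eq_fintype_card, ← Set.toFinset_card]
    congr 1
    refine (Finset.card_bij (fun (v : (ZMod p)ˣ) _ => (v : ZMod p)) (fun v hv => ?_)
      (fun v _ w _ h => Units.val_injective h) fun n hn => ?_).symm
    · simp only [Set.mem_toFinset, Set.mem_ofPred_eq] at hv
      simp [hv, v.ne_zero]
    · simp only [Finset.mem_filter, Finset.mem_erase, Finset.mem_univ, and_true] at hn
      exact ⟨Units.mk0 n hn.1, by simp [hn.2], rfl⟩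
  have htotal : Nat.card O = ∑ i, (Finset.univ.filter fun n : ZMod p => pt i n ∈ O).card := by
    let E : Bool × ZMod p ≃ Ω :=
      ((Equiv.prodCongrRight fun i => Equiv.addLeft (m i))).trans D.coord.symm
    have hE : ∀ i n, E (i, n) = pt i n := fun i n => rfl
    rw [← Nat.card_congr (E.subtypeEquiv (p := fun q => pt q.1 q.2 ∈ O) (q := fun y => y ∈ O)
      fun q => by rw [← hE, Prod.mk.eta]), Nat.card_eq_fintype_card, Fintype.card_subtype,
      Finset.card_filter, Fintype.sum_prod_type]
    exact Finset.sum_congr rfl fun i _ => (Finset.card_filter _ _).symm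
  rw [htotal, Fintype.sum_bool, hsideCard, hsideCard, hm0, if_neg hbase, zero_add]
  push_cast
  rw [show ∀ x y z : ℤ, x + y + z - x = y + z from fun x y z => by ring]
  exact dvd_add (Int.natCast_dvd_natCast.mpr (hX true)) (Int.natCast_dvd_natCast.mpr (hX false))

/-- The case `e = 2`, `r = 3`. -/
theorem false_of_deg_two (he : Nat.card C.S = 2) {g : G} {u : (ZMod p)ˣ}
    (hu : Subgroup.zpowers u = C.S) (hu1 : u ≠ 1)
    (hg : g * D.gen * g⁻¹ = D.pw u) (hfix : g • D.base = D.base) : False := by
  classical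
  obtain ⟨d, ρ, hirr, hρ⟩ := C.Y.2
  have hd : d = 2 := by
    have h := C.degree_R C.Y_mem
    rw [← hρ, Representation.char_one, Module.finrank_fin_fun, he] at h
    exact_mod_cast h
  subst hd
  have hu2 : u * u = 1 := by
    have h : orderOf u = 2 := by rw [← Nat.card_zpowers, hu, he]
    rw [← pow_two, ← h, pow_orderOf_eq_one]
  have hneg : (u : ZMod p) = -1 := by
    have h : (u : ZMod p) * u = 1 := congrArg Units.val hu2
    rcases mul_self_eq_one_iff.mp h with e | e
    · exact absurd (Units.ext e) hu1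
    · exact e
  have hgg : g * g = 1 := by
    refine D.eq_one_of_commute_of_fix (x := D.base) ?_ (by rw [mul_smul, hfix, hfix])
    have h1 := D.conj_pw hg (u : ZMod p)
    rw [show (u : ZMod p) * u = 1 from congrArg Units.val hu2, pw_one, ← hg] at h1
    have h2 : g * g * D.gen * (g * g)⁻¹ = D.gen := by
      calc g * g * D.gen * (g * g)⁻¹ = g * (g * D.gen * g⁻¹) * g⁻¹ := by group
        _ = D.gen := h1
    exact mul_inv_eq_iff_eq_mul.mp h2
  have hflip : ∀ n, g * D.pw n = D.pw (-n) * g := fun n => by
    have := D.conj_pw hg n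
    rw [hneg, neg_one_mul] at this
    rw [← this, inv_mul_cancel_right]
  -- the trace of `g` vanishes
  have h2ne : (2 : ZMod p) ≠ 0 := by
    intro h
    have h' : ((2 : ℕ) : ZMod p) = 0 := by exact_mod_cast h
    rw [ZMod.natCast_eq_zero_iff] at h'
    rcases (Nat.dvd_prime Nat.prime_two).mp h' with h'' | h''
    · exact hp.out.one_lt.ne' h''
    · exact Nat.not_even_iff_odd.mpr D.odd (h'' ▸ even_two)
  have hsame : ∀ n, ρ.character (g * D.pw n) = ρ.character g := by
    intro n
    have h := Char.IsIrrCharacter.isClassFunction C.Y.2 g (D.pw (-((2 : ZMod p)⁻¹ * n)))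
    rw [← hρ, pw_inv, mul_assoc] at h
    rw [← h]
    congr 1
    rw [neg_neg, hflip ((2 : ZMod p)⁻¹ * n), ← mul_assoc, ← pw_add, hflip n]
    congr 2
    rw [← neg_add, ← two_mul, mul_inv_cancel_left₀ h2ne]
  have hsum : ∑ n : ZMod p, ρ (D.pw n) = 0 := by
    obtain ⟨b, μ, hμ, hroot⟩ := Char.exists_eigenbasis ρ D.gen
    have hex : ∀ k, ∃ i : ZMod p, expo i = μ k := fun k =>
      exists_expo_eq (by rw [← D.orderOf_gen]; exact hroot k)
    choose e he using hex
    have hb : ∀ k, ρ D.gen (b k) = expo (e k) • b k := fun k => by rw [he, hμ]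
    refine b.ext fun k => ?_
    have hpow : ∀ m : ℕ, (ρ (D.gen ^ m)) (b k) = expo (e k) ^ m • b k := by
      intro m
      induction m with
      | zero => simp
      | succ m ih =>
        rw [pow_succ, map_mul, Module.End.mul_apply, hb, map_smul, ih, smul_smul, pow_succ']
    rw [LinearMap.sum_apply, LinearMap.zero_apply,
      Finset.sum_congr rfl (g := fun n : ZMod p => expo (n * e k) • b k) fun n _ => by
        rw [show D.pw n = D.gen ^ n.val from rfl, hpow, ← expo_natCast_mul, ZMod.natCast_zmod_val],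
      ← Finset.sum_smul, sum_expo_mul, if_neg, zero_smul]
    intro h0
    have h := C.eig_R_zero _ C.Y_mem
    rw [D.eig_eq_card ρ hρ b e hb] at h
    exact absurd h (Finset.card_ne_zero.mpr ⟨k, by simp [h0]⟩)
  have htr : LinearMap.trace ℂ _ (ρ g) = 0 := by
    have h : ∑ n : ZMod p, ρ.character (g * D.pw n) = 0 := by
      simp only [Representation.character, map_mul, ← map_sum, ← Finset.mul_sum, hsum, mul_zero,
        map_zero]
    rw [Finset.sum_congr rfl fun n _ => hsame n, Finset.sum_const, Finset.card_univ, ZMod.card,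
      nsmul_eq_mul] at h
    exact (mul_eq_zero.mp h).resolve_left (Nat.cast_ne_zero.2 hp.out.ne_zero)
  have hdet : LinearMap.det (ρ g) = -1 := by
    set M := LinearMap.toMatrix' (ρ g) with hM
    have hMM : M * M = 1 := by
      rw [hM, ← LinearMap.toMatrix'_mul, ← map_mul, hgg, map_one, LinearMap.toMatrix'_one]
    have hMt : M.trace = 0 := by
      rw [← htr, LinearMap.trace_eq_matrix_trace ℂ (Pi.basisFun ℂ (Fin 2)),
        LinearMap.toMatrix_eq_toMatrix', hM]
    rw [← LinearMap.det_toMatrix', ← hM, Matrix.det_fin_two]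
    have h00 := congrFun (congrFun hMM 0) 0
    rw [Matrix.mul_apply, Fin.sum_univ_two, Matrix.one_apply_eq] at h00
    rw [Matrix.trace_fin_two] at hMt
    linear_combination (M 0 0) * hMt - h00
  -- the kernel of the determinant
  let δ : G →* ℂ := (LinearMap.det : Module.End ℂ (Fin 2 → ℂ) →* ℂ).comp (ρ : G →* Module.End ℂ (Fin 2 → ℂ))
  have hδ : ∀ x, δ x = LinearMap.det (ρ x) := fun x => rfl
  set K := δ.ker
  have hgen : D.gen ∈ K := by
    rw [MonoidHom.mem_ker]
    have h1 : δ D.gen * δ D.gen = 1 := by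
      have h := congrArg δ hg
      rw [map_mul, map_mul, mul_right_comm, ← map_mul, mul_inv_cancel, map_one, one_mul, hneg,
        ← pw_inv, pw_one] at h
      conv_lhs => arg 2; rw [h]
      rw [← map_mul, mul_inv_cancel, map_one]
    have h2 : δ D.gen ^ p = 1 := by rw [← map_pow, D.gen_pow_p, map_one]
    obtain ⟨k, hk⟩ := D.odd
    have h3 : δ D.gen ^ (2 * k + 1) = 1 := (congrArg (δ D.gen ^ ·) hk).symm.trans h2
    rwa [pow_succ, pow_mul, pow_two, h1, one_pow, one_mul] at h3
  have hKne : K ≠ ⊥ := fun e => D.gen_ne_one (by rwa [e, Subgroup.mem_bot] at hgen)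
  have := D.prim
  have htK : IsPretransitive K Ω := isPretransitive_of_normal_ne_bot hKne
  obtain ⟨P, hP⟩ := IsPGroup.exists_le_sylow (p := p) (P := (Subgroup.zpowers (⟨D.gen, hgen⟩ : K)))
    (IsPGroup.of_card (n := 1) (by
      rw [Nat.card_zpowers, pow_one, ← Subgroup.orderOf_coe, D.orderOf_gen]))
  have hgP : (⟨D.gen, hgen⟩ : K) ∈ (P : Subgroup K) := hP (Subgroup.mem_zpowers _)
  have hPpw : ∀ x : K, x ∈ (P : Subgroup K) → ∃ c, (x : G) = D.pw c := fun x hx =>
    D.eq_pw_of_pGroup ((P : Subgroup K).map K.subtype) (P.2.map _) ⟨_, hgP, rfl⟩ ⟨x, hx, rfl⟩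
  have hcP : Nat.card (P : Subgroup K) = p := by
    rw [show (P : Subgroup K) = Subgroup.zpowers ⟨D.gen, hgen⟩ from le_antisymm (fun x hx => by
      obtain ⟨c, hc⟩ := hPpw x hx
      exact ⟨(c.val : ℤ), Subtype.ext (by rw [hc]; simp only [zpow_natCast, SubgroupClass.coe_pow]; rfl)⟩) hP,
      Nat.card_zpowers, ← Subgroup.orderOf_coe, D.orderOf_gen]
  have hNC : Subgroup.normalizer ((P : Subgroup K) : Set K) ≤
      Subgroup.centralizer ((P : Subgroup K) : Set K) := by
    intro x hx
    obtain ⟨c, hc⟩ := hPpw _ ((Subgroup.mem_normalizer_iff.mp hx ⟨D.gen, hgen⟩).mp hgP)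
    have hc' : (x : G) * D.gen * (x : G)⁻¹ = D.pw c := hc
    have hc0 : c ≠ 0 := fun e => D.gen_ne_one (by
      rw [e, pw_zero, mul_inv_eq_one] at hc'
      exact (mul_eq_left (a := (x : G))).mp hc')
    have hcS := D.mem_S_of_normalizing C (u := Units.mk0 c hc0) hc'
    rw [← hu] at hcS
    obtain ⟨k, hk⟩ := (IsOfFinOrder.mem_powers_iff_mem_zpowers (isOfFinOrder_of_finite u)).mpr hcS
    have hcase : Units.mk0 c hc0 = 1 ∨ Units.mk0 c hc0 = u := by
      have hk' : u ^ k = Units.mk0 c hc0 := hk
      rw [← hk', ← Nat.div_add_mod k 2, pow_add, pow_mul, pow_two, hu2, one_pow, one_mul]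
      rcases Nat.mod_two_eq_zero_or_one k with h | h <;> rw [h]
      · exact Or.inl (pow_zero u)
      · exact Or.inr (pow_one u)
    have hcomm : Commute (x : G) D.gen := by
      rcases hcase with h | h
      · have : c = 1 := congrArg Units.val h
        rw [this, pw_one] at hc'
        exact mul_inv_eq_iff_eq_mul.mp hc'
      · exfalso
        have hcu : c = (u : ZMod p) := congrArg Units.val h
        rw [hcu, ← hg] at hc'
        have h1 : Commute (g⁻¹ * (x : G)) D.gen := by
          rw [Commute, SemiconjBy, mul_assoc, mul_inv_eq_iff_eq_mul.mp hc']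
          group
        obtain hx' := D.eq_pw h1
        have hxK : δ (x : G) = 1 := x.2
        have hpwK : ∀ n, δ (D.pw n) = 1 := fun n => by
          rw [show D.pw n = D.gen ^ n.val from rfl, map_pow, MonoidHom.mem_ker.mp hgen, one_pow]
        have : δ (g * (g⁻¹ * (x : G))) = δ (x : G) := by rw [mul_inv_cancel_left]
        rw [map_mul, hx', hpwK, mul_one, hxK, hδ, hdet] at this
        norm_num at this
    have hxpw := D.eq_pw hcomm
    rw [Subgroup.mem_centralizer_iff]
    intro y hy
    obtain ⟨c', hc''⟩ := hPpw y hy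
    apply Subtype.ext
    rw [Subgroup.coe_mul, Subgroup.coe_mul, hxpw, hc'']
    exact (D.pw_comm _ _).eq
  have hcompl := MonoidHom.ker_transferSylow_isComplement' P hNC
  set φ := MonoidHom.transferSylow P hNC
  set Q := φ.ker.map K.subtype
  have hQcard : Nat.card Q * p = Nat.card K := by
    rw [Subgroup.card_map_of_injective K.subtype_injective]
    have h := hcompl.card_mul_card
    rwa [hcP] at h
  have hsq : ¬ p * p ∣ Nat.card K := fun h => by
    have h1 := P.pow_dvd_card_of_pow_dvd_card (n := 2) (by rwa [pow_two])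
    rw [hcP, pow_two] at h1
    have := Nat.le_of_dvd hp.out.pos h1
    nlinarith [hp.out.two_le]
  have hQnormal : Q.Normal := ⟨by
    rintro _ ⟨q, hq, rfl⟩ x
    have hKn : x * (q : G) * x⁻¹ ∈ K := (inferInstance : K.Normal).conj_mem _ q.2 x
    refine ⟨⟨x * (q : G) * x⁻¹, hKn⟩, ?_, rfl⟩
    rw [SetLike.mem_coe, MonoidHom.mem_ker, ← orderOf_eq_one_iff]
    have h1 : orderOf (φ ⟨x * (q : G) * x⁻¹, hKn⟩) ∣ orderOf (q : G) := by
      refine (orderOf_map_dvd φ _).trans ?_
      rw [← Subgroup.orderOf_coe]
      exact ((MulAut.conj x).orderOf_eq (q : G)).dvd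
    have h2 : orderOf (q : G) ∣ Nat.card Q := Subgroup.orderOf_dvd_natCard Q ⟨q, hq, rfl⟩
    have h3 : orderOf (φ ⟨x * (q : G) * x⁻¹, hKn⟩) ∣ p := (orderOf_dvd_natCard _).trans (dvd_of_eq hcP)
    have h4 : Nat.Coprime p (Nat.card Q) := (Nat.Prime.coprime_iff_not_dvd hp.out).mpr fun h =>
      hsq (hQcard ▸ Nat.mul_dvd_mul_right h p)
    exact Nat.eq_one_of_dvd_coprimes h4 h3 (h1.trans h2)⟩
  have hKcard : 2 * p ∣ Nat.card K := by
    rw [← D.card_eq, ← index_stabilizer_of_transitive K D.base]
    exact Subgroup.index_dvd_card _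
  by_cases hQ : Q = ⊥
  · rw [hQ, Subgroup.card_bot, one_mul] at hQcard
    rw [← hQcard] at hKcard
    have := Nat.le_of_dvd hp.out.pos hKcard
    have := hp.out.pos
    omega
  · have htQ : IsPretransitive Q Ω := isPretransitive_of_normal_ne_bot hQ
    have h := Subgroup.index_dvd_card (stabilizer Q D.base)
    rw [index_stabilizer_of_transitive, D.card_eq] at h
    exact hsq (hQcard ▸ Nat.mul_dvd_mul_right ((dvd_mul_left p 2).trans h) p)

theorem false_of_preserving (hr : 2 ≤ C.R.card)
    (hpres : ∀ (g : G) (u : (ZMod p)ˣ), g * D.gen * g⁻¹ = D.pw u →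
      (D.coord (g • D.base)).1 = false) : False := by
  classical
  obtain ⟨g, u, hu, hg, hfix⟩ := C.exists_normalizing_fix hr hpres
  have hu1 : u ≠ 1 := fun e => by
    have h := C.two_le_card_S
    rw [← hu, e, Subgroup.zpowers_one_eq_bot, Subgroup.card_bot] at h
    omega
  obtain ⟨b, hb, hdvd⟩ := C.dvd_subdegree hu hu1 hg hfix
  have := Fintype.ofFinite (orbitRel.Quotient (stabilizer G D.base) Ω)
  obtain ⟨k, δ, J, hk, hQ, hcard, hδ, hJ, horth⟩ := C.exists_suborbit_data D.base
  set Q := Finset.univ.erase (⟦D.base⟧ : orbitRel.Quotient (stabilizer G D.base) Ω)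
  have hmem : ∀ c, c ≠ D.base → (⟦c⟧ : orbitRel.Quotient (stabilizer G D.base) Ω) ∈ Q := by
    intro c hc
    refine Finset.mem_erase.mpr ⟨fun e => hc ?_, Finset.mem_univ _⟩
    obtain ⟨h, hh⟩ := orbitRel_apply.mp (Quotient.exact e)
    exact hh.symm.trans h.2
  have hcong : ∀ q ∈ Q, (Nat.card C.S : ℤ) ∣ k q -
      (if q = (⟦b⟧ : orbitRel.Quotient (stabilizer G D.base) Ω) then 1 else 0) := by
    intro q hq
    induction q using Quotient.inductionOn with
    | h c =>
      have hc : c ≠ D.base := fun e => Finset.ne_of_mem_erase hq (by rw [e])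
      have h := hdvd c hc
      rw [← hk c] at h
      convert! h using 3
      rw [eq_comm, Quotient.eq (r := orbitRel (stabilizer G D.base) Ω)]
      exact orbitRel_apply
  have h1 : Nat.card C.S = 2 ∧ C.R.card = 3 := by
    refine suborbit_arith Q C.two_le_card_S hr C.card_S_bound k δ J _ (hmem b hb) hcard hQ
      (fun q hq hne => ?_) ?_ hδ hJ horth
    · simpa [hne] using hcong q hq
    · simpa using hcong _ (hmem b hb)
  exact C.false_of_deg_two h1.1 hu hu1 hg hfix

end Consts

/-- The elements acting as even permutations. -/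
def evenPart : Subgroup G :=
  ((Equiv.Perm.sign : Equiv.Perm Ω →* ℤˣ).comp (MulAction.toPermHom G Ω)).ker

omit [FaithfulSMul G Ω] [Finite G] [Fintype G] hp in
theorem mem_evenPart {x : G} :
    x ∈ evenPart (G := G) (Ω := Ω) ↔ Equiv.Perm.sign (MulAction.toPerm x : Equiv.Perm Ω) = 1 :=
  MonoidHom.mem_ker

include D in
omit [Finite G] [Fintype G] in
theorem gen_mem_evenPart : D.gen ∈ evenPart (G := G) (Ω := Ω) := by
  rw [mem_evenPart]
  have h : D.gen * D.gen * D.gen⁻¹ = D.pw ((1 : (ZMod p)ˣ) : ZMod p) := by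
    rw [Units.val_one, pw_one, mul_inv_cancel_right]
  rw [D.sign_normalizing (Units.ne_zero _) h, D.coord_gen]
  simp [base]

include D in
theorem evenPart_primitive : IsPreprimitive (evenPart (G := G) (Ω := Ω)) Ω := by
  classical
  have := D.prim
  set H := evenPart (G := G) (Ω := Ω) with hH
  have hHn : H.Normal := by rw [hH, evenPart]; infer_instance
  have hg : D.gen ∈ H := D.gen_mem_evenPart
  have htr : IsPretransitive H Ω := isPretransitive_of_normal_ne_bot fun e =>
    D.gen_ne_one (by rwa [e, Subgroup.mem_bot] at hg)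
  refine ⟨fun {B} hB => ?_⟩
  rw [IsTrivialBlock]
  by_contra hnt
  rw [not_or, Set.not_subsingleton_iff] at hnt
  obtain ⟨hBnt, hBu⟩ := hnt
  have hsplit : Set.ncard B = 2 ∨ Set.ncard B = p := by
    have h := hB.ncard_dvd_card hBnt.nonempty
    rw [D.card_eq] at h
    have h1 : 1 < B.ncard := (Set.one_lt_ncard (Set.toFinite B)).mpr hBnt
    have h2 : B.ncard < 2 * p := by
      rw [← D.card_eq, ← Set.ncard_univ]
      exact Set.ncard_lt_ncard (Set.ssubset_univ_iff.mpr hBu) (Set.toFinite _)
    obtain ⟨d₁, d₂, hd₁, hd₂, he⟩ := Nat.dvd_mul.mp h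
    rcases (Nat.dvd_prime Nat.prime_two).mp hd₁ with rfl | rfl <;>
      rcases (Nat.dvd_prime hp.out).mp hd₂ with rfl | rfl <;> omega
  obtain ⟨a, ha⟩ := hBnt.nonempty
  rcases hsplit with h2 | hpc
  · obtain ⟨b, hb, hne⟩ := hBnt.exists_ne a
    have hBab : B = {a, b} := (Set.eq_of_subset_of_ncard_le
      (Set.insert_subset ha (Set.singleton_subset_iff.mpr hb))
      (by rw [h2, Set.ncard_pair hne.symm]) (Set.toFinite _)).symm
    have hle : stabilizer H a ≤ stabilizer H b := by
      intro h hh
      have hh' : h • a = a := hh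
      have heq := (MulAction.isBlock_iff_smul_eq_of_mem.mp hB) (g := h) ha (by rw [hh']; exact ha)
      have h1 : h • b ∈ B := heq ▸ Set.smul_mem_smul_set hb
      rw [hBab, Set.mem_insert_iff, Set.mem_singleton_iff] at h1
      rcases h1 with h1 | h1
      · exact absurd (smul_left_cancel h (h1.trans hh'.symm)) hne
      · exact h1
    have heq : stabilizer H a = stabilizer H b := by
      refine Subgroup.eq_of_le_of_card_ge hle (le_of_eq ?_)
      obtain ⟨g, rfl⟩ := exists_smul_eq H a b
      exact Nat.card_congr (stabilizerEquivStabilizer (g := g) rfl).symm.toEquiv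
    have hinv : ∀ (g : G) (x y : Ω), stabilizer H x = stabilizer H y →
        stabilizer H (g • x) = stabilizer H (g • y) := by
      intro g x y h
      ext k
      have hkey : ∀ z : Ω, k ∈ stabilizer H (g • z) ↔
          (⟨g⁻¹ * (k : G) * g, by simpa using hHn.conj_mem _ k.2 g⁻¹⟩ : H) ∈ stabilizer H z := by
        intro z
        simp only [mem_stabilizer_iff, Subgroup.smul_def, mul_smul, inv_smul_eq_iff]
      rw [hkey, hkey, h]
    rcases eq_or_all_of_invariant_equivalence (G := G) (X := Ω)
        (fun x y => stabilizer H x = stabilizer H y) ⟨fun _ => rfl, Eq.symm, Eq.trans⟩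
        hinv with h | h
    · exact hne (h a b heq).symm
    · have hbot : stabilizer H a = ⊥ := by
        rw [Subgroup.eq_bot_iff_forall]
        intro k hk
        apply Subtype.ext
        refine FaithfulSMul.eq_of_smul_eq_smul (α := Ω) fun x => ?_
        rw [Subgroup.coe_one, one_smul]
        exact (h a x ▸ hk : k ∈ stabilizer H x)
      have hcH : Nat.card H = 2 * p := by
        rw [← (stabilizer H a).index_mul_card, hbot, Subgroup.card_bot, mul_one, ← hbot,
          index_stabilizer_of_transitive, D.card_eq]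
      set Z := Subgroup.zpowers (⟨D.gen, hg⟩ : H) with hZ
      have hidx : Z.index = 2 := by
        have h2 := Z.index_mul_card
        rw [hcH, Nat.card_zpowers, ← Subgroup.orderOf_coe, D.orderOf_gen] at h2
        exact Nat.eq_of_mul_eq_mul_right hp.out.pos h2
      refine D.zpowers_gen_not_normal (Subgroup.normalizer_eq_top_iff.mp (eq_top_iff.mpr fun g _ => ?_))
      have hconj : ∀ g : G, g * D.gen * g⁻¹ ∈ Subgroup.zpowers D.gen := by
        intro g
        have hm : g * D.gen * g⁻¹ ∈ H := hHn.conj_mem _ hg g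
        have hsq := Z.sq_mem_of_index_two hidx (⟨g * D.gen * g⁻¹, hm⟩ : H)
        obtain ⟨k, hk⟩ := D.odd
        obtain ⟨m, hm'⟩ := Subgroup.mem_zpowers_iff.mp (pow_mem hsq (k + 1))
        refine ⟨m, ?_⟩
        have hm'' := congrArg Subtype.val hm'
        simp only [SubgroupClass.coe_zpow, SubgroupClass.coe_pow] at hm''
        change D.gen ^ m = _
        rw [hm'', ← pow_mul, show 2 * (k + 1) = p + 1 by omega, pow_succ, conj_pow,
          D.gen_pow_p, mul_one, mul_inv_cancel, one_mul]
      rw [Subgroup.mem_normalizer_iff]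
      intro x
      constructor
      · rintro ⟨m, rfl⟩
        change g * D.gen ^ m * g⁻¹ ∈ _
        rw [← conj_zpow]
        exact zpow_mem (hconj g) m
      · rintro ⟨m, hm⟩
        have hm' : D.gen ^ m = g * x * g⁻¹ := hm
        have e : x = g⁻¹ * D.gen ^ m * (g⁻¹)⁻¹ := by rw [hm']; group
        rw [e, ← conj_zpow]
        exact zpow_mem (hconj g⁻¹) m
  · have hblocks : ∀ B' : Set Ω, IsBlock H B' → B'.ncard = p →
        ∃ i, B' = {x | (D.coord x).1 = i} := by
      intro B' hB' hc'
      have hpres : ∀ x ∈ B', D.gen • x ∈ B' := by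
        set s : H := ⟨D.gen, hg⟩
        have hall : ∀ k : H, k • B' = B' ∨ k • B' = B'ᶜ := by
          intro k
          rcases (MulAction.isBlock_iff_smul_eq_or_disjoint.mp hB') k with h | h
          · exact Or.inl h
          · right
            refine Set.eq_of_subset_of_ncard_le (fun x hx hxB => Set.disjoint_left.mp h hx hxB) ?_ (Set.toFinite _)
            rw [Set.ncard_smul_set, Set.ncard_compl, hc', D.card_eq]
            omega
        have h2 : (s * s) • B' = B' := by
          rcases hall s with h | h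
          · rw [mul_smul, h, h]
          · rw [mul_smul, h, Set.smul_set_compl, h, compl_compl]
        have hs : s • B' = B' := by
          obtain ⟨k, hk⟩ := D.odd
          have h3 : ((s * s) ^ (k + 1)) • B' = B' := by
            induction k + 1 with
            | zero => rw [pow_zero, one_smul]
            | succ j ih => rw [pow_succ, mul_smul, h2, ih]
          rwa [show (s * s) ^ (k + 1) = s from Subtype.ext (by
            rw [SubgroupClass.coe_pow, Subgroup.coe_mul, ← pow_two, ← pow_mul,
              show 2 * (k + 1) = p + 1 by omega, pow_succ, D.gen_pow_p, one_mul])] at h3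
        intro x hx
        rw [← hs]
        exact Set.smul_mem_smul_set hx
      obtain ⟨x, hx⟩ : B'.Nonempty := Set.nonempty_of_ncard_ne_zero (by
        rw [hc']
        exact hp.out.ne_zero)
      refine ⟨(D.coord x).1, (Set.eq_of_subset_of_ncard_le ?_ ?_ (Set.toFinite _)).symm⟩
      · intro y hy
        have hpow : ∀ k : ℕ, D.gen ^ k • x ∈ B' := by
          intro k
          induction k with
          | zero => simpa using hx
          | succ k ih => rw [pow_succ', mul_smul]; exact hpres _ ih
        have : y = D.gen ^ ((D.coord y).2 - (D.coord x).2).val • x := D.coord.injective (by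
          rw [coord_gen_pow, ZMod.natCast_zmod_val, add_sub_cancel]
          exact Prod.ext hy rfl)
        rw [this]
        exact hpow _
      · rw [hc', ← Nat.card_coe_set_eq]
        refine (Nat.card_zmod p).symm.le.trans (le_of_eq (Nat.card_congr ?_))
        exact ⟨fun n => ⟨D.coord.symm ((D.coord x).1, n), by simp⟩, fun y => (D.coord y).2,
          fun n => by simp, fun y => Subtype.ext (D.coord.injective (by
            rw [Equiv.apply_symm_apply]
            exact Prod.ext y.2.symm rfl))⟩
    obtain ⟨i, rfl⟩ := hblocks B hB hpc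
    have hBG : IsBlock G {x : Ω | (D.coord x).1 = i} := by
      rw [MulAction.isBlock_iff_smul_eq_or_disjoint]
      intro g
      have hgB : IsBlock H (g • {x : Ω | (D.coord x).1 = i}) := by
        rw [MulAction.isBlock_iff_smul_eq_or_disjoint]
        intro k
        set k' : H := ⟨g⁻¹ * (k : G) * g, by simpa using hHn.conj_mem _ k.2 g⁻¹⟩
        have he : k • g • {x : Ω | (D.coord x).1 = i} = g • k' • {x : Ω | (D.coord x).1 = i} := by
          simp only [Subgroup.smul_def, ← mul_smul]
          rw [show g * (k' : G) = (k : G) * g by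
            change g * (g⁻¹ * (k : G) * g) = (k : G) * g
            group]
        rw [he]
        rcases (MulAction.isBlock_iff_smul_eq_or_disjoint.mp hB) k' with h | h
        · exact Or.inl (by rw [h])
        · exact Or.inr (Set.disjoint_image_of_injective (MulAction.injective g) h)
      obtain ⟨j, hj⟩ := hblocks _ hgB (by rw [Set.ncard_smul_set, hpc])
      rw [hj]
      by_cases hij : j = i
      · exact Or.inl (by rw [hij])
      · exact Or.inr (Set.disjoint_left.mpr fun x h1 h2 => hij (h1.symm.trans h2))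
    rcases IsPreprimitive.isTrivialBlock_of_isBlock hBG with h | h
    · exact absurd h hBnt.not_subsingleton
    · exact hBu h

include D in
/-- Wielandt's theorem. -/
theorem wielandt (a₀ : Ω) :
    Nat.card (orbitRel.Quotient (stabilizer G a₀) Ω) = 3 ∧
      ∃ a : ℕ, 0 < a ∧ p = 2 * a ^ 2 + 2 * a + 1 ∧ ∀ b : Ω, b ≠ a₀ →
        Nat.card (orbit (stabilizer G a₀) b) = a * (2 * a + 1) ∨
          Nat.card (orbit (stabilizer G a₀) b) = (a + 1) * (2 * a + 1) := by
  classical
  have := D.prim
  obtain ⟨C⟩ := D.exists_consts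
  have hr0 : 0 < C.R.card := Finset.card_pos.mpr ⟨_, C.Y_mem⟩
  have hr : C.R.card = 1 := by
    by_contra hne
    set H := evenPart (G := G) (Ω := Ω)
    have hfaith : FaithfulSMul H Ω := ⟨fun {x y} h => Subtype.ext (FaithfulSMul.eq_of_smul_eq_smul h)⟩
    let D0 : Setup p H Ω :=
      { gen := ⟨D.gen, D.gen_mem_evenPart⟩
        coord := D.coord
        coord_gen := D.coord_gen
        prim := D.evenPart_primitive
        not2 := fun h2 => D.not2 (is_two_pretransitive_iff.mpr fun {a b c d} hab hcd => by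
          obtain ⟨k, hk⟩ := is_two_pretransitive_iff.mp h2 hab hcd
          exact ⟨(k : G), hk⟩)
        odd := D.odd
        free := fun z hz x hx => Subtype.ext (D.free (z : G) (by
          rw [← SubgroupClass.coe_pow, hz, Subgroup.coe_one]) x hx) }
    have : Fintype H := Fintype.ofFinite H
    obtain ⟨C0⟩ := D0.exists_consts
    have hle : Nat.card (orbitRel.Quotient G (Ω × Ω)) ≤ Nat.card (orbitRel.Quotient H (Ω × Ω)) :=
      Nat.card_le_card_of_surjective
        (Quotient.lift (fun q : Ω × Ω => (⟦q⟧ : orbitRel.Quotient G (Ω × Ω))) fun q q' h => by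
          obtain ⟨k, rfl⟩ := orbitRel_apply.mp h
          exact Quotient.sound (orbitRel_apply.mpr ⟨(k : G), rfl⟩))
        (fun q => by
          induction q using Quotient.inductionOn with
          | h q => exact ⟨⟦q⟧, rfl⟩)
    rw [C.card_orbitals, C0.card_orbitals] at hle
    refine C0.false_of_preserving (by omega) fun g u hgu => ?_
    have hgu' : (g : G) * D.gen * (g : G)⁻¹ = D.pw (u : ZMod p) := congrArg Subtype.val hgu
    have hs : Equiv.Perm.sign (MulAction.toPerm (g : G) : Equiv.Perm Ω) = 1 := mem_evenPart.mp g.2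
    rw [D.sign_normalizing u.ne_zero hgu'] at hs
    change (D.coord ((g : G) • D.base)).1 = false
    cases h : (D.coord ((g : G) • D.base)).1
    · rfl
    · rw [h] at hs
      simp at hs
  refine ⟨by rw [card_suborbits, C.card_orbitals, hr], ?_⟩
  have := Fintype.ofFinite (orbitRel.Quotient (stabilizer G a₀) Ω)
  obtain ⟨k, δ, J, hk, hQ, hcard, hδ, hJ, horth⟩ := C.exists_suborbit_data a₀
  have he : Nat.card C.S = p - 1 := by
    have := C.card_mul
    rwa [hr, one_mul] at this
  rw [hr] at hcard hJ
  obtain ⟨a, ha, hpa, hsub⟩ := rank_three_subdegrees _ he hp.out.two_le k δ J hcard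
    (fun q hq => ⟨(hQ q hq).1, (hQ q hq).2.1, (hQ q hq).2.2.1⟩) hδ (by simpa using hJ) horth
  refine ⟨a, ha, hpa, fun b hb => ?_⟩
  have hmem : (⟦b⟧ : orbitRel.Quotient (stabilizer G a₀) Ω) ∈ Finset.univ.erase ⟦a₀⟧ := by
    refine Finset.mem_erase.mpr ⟨fun e => hb ?_, Finset.mem_univ _⟩
    obtain ⟨g, hg⟩ := orbitRel_apply.mp (Quotient.exact e)
    exact hg.symm.trans g.2
  have := hsub _ hmem
  rw [hk b] at this
  exact_mod_cast this

end Setup

end Cfsg.Agent.Perm.TwiceP
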